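import Cfsg.Agent.Lib.GoodInvol.Partner.SzClass
import Cfsg.Agent.Lib.GoodInvol.OrbitVectors

/-!
# Partners: no big block has one

The group of `M` at `X` permutes the blocks of `X` as a transitive group of odd order with the tori semiregular and
acts faithfully on `X / E`, which is too small.
-/

set_option autoImplicit false
set_option linter.style.haveILetI false
set_option linter.unusedSectionVars false
set_option linter.unusedVariables false

namespace Cfsg.Agent.GoodInvol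

open Subgroup MulAction

universe u

variable {G : Type u} [Group G] [Finite G] {M E : Subgroup G} {B : Set G} {A Q K : G → Subgroup G} {r e : ℕ}

/-- The part of `M` normalising `X`. -/
def classN (M X : Subgroup G) : Subgroup G := M ⊓ normalizer (X : Set G)

theorem mem_classN {M X : Subgroup G} {g : G} :
    g ∈ classN M X ↔ g ∈ M ∧ ∀ x, x ∈ X ↔ g * x * g⁻¹ ∈ X :=
  mem_inf.trans (and_congr Iff.rfl mem_normalizer_iff)

namespace BlockData

variable (d : BlockData M E B A Q K r e)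
include d

theorem map_block {g x : G} (hg : g ∈ M) (hx : x ∈ B) :
    (A x).map (MulAut.conj g).toMonoidHom = A (g * x * g⁻¹) := by
  ext y
  constructor
  · rintro ⟨z, hz, rfl⟩
    exact (d.A_conj g hg x hx z).1 hz
  · intro hy
    refine ⟨g⁻¹ * y * g, (d.A_conj g hg x hx _).2 ?_, ?_⟩
    · rwa [show g * (g⁻¹ * y * g) * g⁻¹ = y by group]
    · show g * (g⁻¹ * y * g) * g⁻¹ = y
      group

/-- At most `q ^ 2` partners have one value. -/
theorem value_le_sq {u : G} (hu : u ∈ B) (he : e = 2) (z : G) :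
    {w | Partner B A u w ∧ w * u * w⁻¹ * u⁻¹ = z}.ncard ≤ 2 ^ r * 2 ^ r := by
  classical
  set S := {w | Partner B A u w ∧ w * u * w⁻¹ * u⁻¹ = z}
  rcases S.eq_empty_or_nonempty with h0 | ⟨w1, hp1, hz1⟩
  · simp [h0]
  set C := blockC M E u
  have hm : ∀ s : S, w1 * (s : G) ∈ C := fun s => mem_blockC.2
    ⟨mul_mem (d.bad_le w1 hp1.1) (d.bad_le _ s.2.1.1), d.commute_of_value hu hp1 s.2.1 (hz1.trans s.2.2.symm)⟩
  let A' := (A u).subgroupOf C
  let f : S → C ⧸ A' := fun s => (⟨w1 * (s : G), hm s⟩ : C)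
  haveI : Nonempty S := ⟨⟨w1, hp1, hz1⟩⟩
  have hfib : ∀ s t : S, f s = f t → (w1 * (s : G))⁻¹ * (w1 * t) ∈ E := by
    intro s t h
    set c := w1 * (s : G) with hc
    set a := c⁻¹ * (w1 * t) with ha'
    have ha : a ∈ A u := mem_subgroupOf.1 (QuotientGroup.eq.1 h)
    have hinv : ∀ s : S, w1 * (w1 * (s : G)) * w1⁻¹ = (w1 * (s : G))⁻¹ := fun s => by
      rw [mul_inv_rev, d.bad_inv hp1.1, d.bad_inv s.2.1.1, ← mul_assoc w1, d.bad_sq w1 hp1.1, one_mul]
    refine d.mem_of_commute hu hp1 ha (mul_inv_eq_iff_eq_mul.1 ?_)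
    have h1 := hinv t
    rw [show w1 * (t : G) = c * a by rw [ha', mul_inv_cancel_left],
      show w1 * (c * a) * w1⁻¹ = (w1 * c * w1⁻¹) * (w1 * a * w1⁻¹) by group, hinv s,
      (d.blockC_commute hu (hm s) ha).eq, mul_inv_rev a, d.A_inv hu ha] at h1
    exact mul_left_cancel h1
  let φ : S → (C ⧸ A') × E := fun s =>
    (f s, ⟨(w1 * ((Function.invFun f (f s) : S) : G))⁻¹ * (w1 * s), hfib _ _ (Function.invFun_eq ⟨s, rfl⟩)⟩)
  have hφ : Function.Injective φ := by
    intro s t h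
    simp only [φ, Prod.mk.injEq, Subtype.mk.injEq] at h
    obtain ⟨h1, h2⟩ := h
    rw [h1] at h2
    exact Subtype.ext (mul_left_cancel (mul_left_cancel h2))
  have hcard : Nat.card (C ⧸ A') = 2 ^ r := by
    have h := A'.card_mul_index
    rw [Nat.card_congr (subgroupOfEquivOfLe (d.A_le_blockC hu)).toEquiv, d.card_blockC hu he] at h
    rw [← index_eq_card]
    exact Nat.eq_of_mul_eq_mul_left Nat.card_pos h
  have := Nat.card_le_card_of_injective φ hφ
  rwa [Nat.card_prod, hcard, d.card_E, Nat.card_coe_set_eq] at this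

/-- The bounds on the number of blocks and their size. -/
theorem class_bounds {u w : G} (hu : u ∈ B) (hp : Partner B A u w) (he : e = 2)
    (hbig : 4 * 2 ^ r ≤ Nat.card (A u)) :
    ((classBlocks B A (blockX M E (A u))).ncard - 1) * (Nat.card (A u) - 2 ^ r) ≤
      2 ^ r * 2 ^ r * (2 ^ r - 1) := by
  have h1 := d.card_partners_le hu (n := 2 ^ r * 2 ^ r) fun z _ _ => d.value_le_sq hu he z
  have h2 := d.ncard_partners hu hp he
  set N := (classBlocks B A (blockX M E (A u))).ncard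
  set D := Nat.card (A u) - 2 ^ r
  rw [Nat.sub_mul, one_mul]
  omega

/-- No big block has a partner. -/
theorem no_partner_two {u w : G} (hu : u ∈ B) (hp : Partner B A u w) (he : e = 2)
    (hbig : 4 * 2 ^ r ≤ Nat.card (A u)) : False := by
  classical
  set X := blockX M E (A u) with hX
  set Φ := classBlocks B A X with hΦ
  set Nn := classN M X
  obtain ⟨hdvd, htwo, hAu⟩ := d.two_orbits hu hp he hbig
  have hq := d.q_ge
  have hcb := d.class_bounds hu hp he hbig
  rw [← hX, ← hΦ] at hdvd htwo hcb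
  have hEX : E ≤ X := (d.E_le_A u hu).trans (d.A_le_X hu)
  have hXN : X ≤ Nn := fun g hg => mem_classN.2 ⟨cenE_le M E hg.1, fun x =>
    ⟨fun hx => mul_mem (mul_mem hg hx) (inv_mem hg), fun hx => by
      have := mul_mem (mul_mem (inv_mem hg) hx) hg
      rwa [show g⁻¹ * (g * x * g⁻¹) * g = x by group] at this⟩⟩
  have hmem : ∀ g : Nn, ∀ S ∈ Φ, S.map (MulAut.conj (g : G)).toMonoidHom ∈ Φ := by
    rintro g _ ⟨x, ⟨hx, hxX⟩, rfl⟩
    obtain ⟨hgM, hgX⟩ := mem_classN.1 g.2
    exact ⟨_, ⟨d.conj g hgM x hx, (hgX x).1 hxX⟩, (d.map_block hgM hx).symm⟩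
  letI : MulAction Nn Φ :=
    { smul := fun g S => ⟨(S : Subgroup G).map (MulAut.conj (g : G)).toMonoidHom, hmem g S S.2⟩
      one_smul := fun S => Subtype.ext (by
        show (S : Subgroup G).map (MulAut.conj ((1 : Nn) : G)).toMonoidHom = S
        rw [OneMemClass.coe_one, map_one]
        exact map_id _)
      mul_smul := fun g h S => Subtype.ext (by
        show (S : Subgroup G).map (MulAut.conj ((g * h : Nn) : G)).toMonoidHom =
          ((S : Subgroup G).map (MulAut.conj (h : G)).toMonoidHom).map (MulAut.conj (g : G)).toMonoidHom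
        rw [Subgroup.map_map, Subgroup.coe_mul, map_mul]
        rfl) }
  let ρ : Nn →* Equiv.Perm Φ := MulAction.toPermHom Nn Φ
  let H := ρ.range
  let J : Φ := ⟨A u, hAu⟩
  let bl : ∀ x, x ∈ B → x ∈ X → Φ := fun x hx hxX => ⟨A x, x, ⟨hx, hxX⟩, rfl⟩
  have hfixed : ∀ (g : Nn) x (hx : x ∈ B) (hxX : x ∈ X),
      g • bl x hx hxX = bl x hx hxX ↔ (g : G) * x * (g : G)⁻¹ ∈ A x := fun g x hx hxX => by
    have hgM := (mem_classN.1 g.2).1
    rw [Subtype.ext_iff]
    show (A x).map (MulAut.conj (g : G)).toMonoidHom = A x ↔ _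
    rw [d.map_block hgM hx]
    exact ⟨fun h => h ▸ d.mem_self _ (d.conj g hgM x hx), fun h => d.block_inj hx (d.conj g hgM x hx) h⟩
  have hker : ∀ g : Nn, ρ g = 1 ↔ (g : G) ∈ X := fun g => by
    constructor
    · intro h
      refine d.mem_X_of_blocks hu hp he hbig (mem_classN.1 g.2).1 fun x hx hxX => (hfixed g x hx hxX).1 ?_
      exact congrArg (fun f : Equiv.Perm Φ => f (bl x hx hxX)) h
    · intro hg
      refine Equiv.ext ?_
      rintro ⟨_, x, ⟨hx, hxX⟩, rfl⟩
      refine (hfixed g x hx hxX).2 ?_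
      obtain ⟨hXx, -, -, -⟩ := d.class_mem hu hp he hx hxX
      exact d.conj_A hx (hXx.symm ▸ hg) (d.mem_self x hx)
  have hodd : Odd (Nat.card H) := by
    rw [← Nat.not_even_iff_odd, even_iff_two_dvd]
    intro h2
    haveI : Fact (Nat.Prime 2) := ⟨Nat.prime_two⟩
    obtain ⟨⟨h, g, rfl⟩, ho⟩ := exists_prime_orderOf_dvd_card' (G := H) 2 h2
    have h1 : ρ (g * g) = 1 := by
      rw [map_mul]
      have := pow_orderOf_eq_one (⟨ρ g, g, rfl⟩ : H)
      rw [ho, pow_two] at this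
      exact congrArg Subtype.val this
    obtain ⟨hgM, hgX⟩ := mem_classN.1 g.2
    have hgX' := d.mem_X_of_sq hu hp he hbig hgM (fun x hx => (hgX x).1 hx) ((hker _).1 h1)
    have h3 : (⟨ρ g, g, rfl⟩ : H) = 1 := Subtype.ext ((hker g).2 hgX')
    rw [h3, orderOf_one] at ho
    omega
  haveI : Group.IsSolvable H := OddChar.oddSolvable H hodd
  -- the tori
  have hKN : ∀ x, x ∈ B → x ∈ X → K x ≤ Nn := fun x hx hxX k hk => mem_classN.2 ⟨d.K_le x hx hk, fun y => by
    obtain ⟨hXx, -, -, -⟩ := d.class_mem hu hp he hx hxX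
    constructor
    · intro hy
      have := d.K_normX hx hk (hXx.symm ▸ hy : y ∈ blockX M E (A x))
      rwa [hXx] at this
    · intro hy
      have := d.K_normX hx (inv_mem hk) (hXx.symm ▸ hy : k * y * k⁻¹ ∈ blockX M E (A x))
      rwa [hXx, show k⁻¹ * (k * y * k⁻¹) * k⁻¹⁻¹ = y by group] at this⟩
  let L : G → Subgroup H := fun x => ((K x).subgroupOf Nn).map ρ.rangeRestrict
  have hLfix : ∀ x (hx : x ∈ B) (hxX : x ∈ X), ∀ l ∈ L x, l • bl x hx hxX = bl x hx hxX := by
    rintro x hx hxX _ ⟨k, hk, rfl⟩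
    refine (hfixed k x hx hxX).2 ?_
    rw [(d.K_commute x hx (k : G) hk).eq, mul_inv_cancel_right]
    exact d.mem_self x hx
  have hfree : ∀ x (hx : x ∈ B) (hxX : x ∈ X), ∀ k : Nn, (k : G) ∈ K x → ∀ b : Φ, b ≠ bl x hx hxX →
      k • b = b → k = 1 := by
    rintro x hx hxX k hk ⟨_, y, ⟨hy, hyX⟩, rfl⟩ hne h
    obtain ⟨hXx, -, -, -⟩ := d.class_mem hu hp he hx hxX
    have hyx : Partner B A x y :=
      (d.partner_iff hx).2 ⟨hy, hXx.symm ▸ hyX, fun hm => hne (Subtype.ext (d.block_inj hx hy hm))⟩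
    exact Subtype.ext (d.torus_free (w := y) hx hyx hk ((hfixed k y hy hyX).1 h))
  have hLsemi : ∀ x (hx : x ∈ B) (hxX : x ∈ X), ∀ l ∈ L x, ∀ b : Φ, b ≠ bl x hx hxX → l • b = b → l = 1 := by
    rintro x hx hxX _ ⟨k, hk, rfl⟩ b hb h
    rw [hfree x hx hxX k hk b hb h, map_one]
  have hLcard : ∀ x, x ∈ B → x ∈ X → Nat.card (L x) = 2 ^ r - 1 := fun x hx hxX => by
    obtain ⟨hXx, -, -, y, hy, hyX⟩ := d.class_mem hu hp he hx hxX
    have hinj : Function.Injective (ρ.rangeRestrict.subgroupMap ((K x).subgroupOf Nn)) := by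
      rw [injective_iff_map_eq_one]
      intro k hk
      refine Subtype.ext (hfree x hx hxX k.1 k.2 (bl y hy.1 hyX) (fun h => hy.2.1 ?_) ?_)
      · have h' : A y = A x := congrArg Subtype.val h
        exact h' ▸ d.mem_self y hy.1
      · exact congrArg (fun f : Equiv.Perm Φ => f (bl y hy.1 hyX)) (congrArg Subtype.val (congrArg Subtype.val hk))
    rw [← d.K_card x hx, ← Nat.card_congr (subgroupOfEquivOfLe (hKN x hx hxX)).toEquiv]
    exact (Nat.card_congr (Equiv.ofBijective _ ⟨hinj, MonoidHom.subgroupMap_surjective _ _⟩)).symm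
  have hcount : ∀ x (hx : x ∈ B) (hxX : x ∈ X), 2 ^ r - 1 ∣ (orbit H J \ {bl x hx hxX}).ncard := fun x hx hxX => by
    letI : MulAction (L x) (orbit H J \ {bl x hx hxX} : Set Φ) :=
      { smul := fun l b => ⟨(l : H) • b.1, mem_orbit_of_mem_orbit _ b.2.1, fun e' => b.2.2
          (smul_left_cancel (l : H) (e'.trans (hLfix x hx hxX l l.2).symm))⟩
        one_smul := fun b => Subtype.ext (one_smul H b.1)
        mul_smul := fun l l' b => Subtype.ext (mul_smul (l : H) (l' : H) b.1) }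
    rw [← Nat.card_coe_set_eq, ← hLcard x hx hxX]
    exact BlockFix.card_dvd_of_free fun l b h =>
      Subtype.ext (hLsemi x hx hxX l l.2 b.1 b.2.2 (congrArg Subtype.val h))
  have huX := d.A_le_X hu (d.mem_self u hu)
  have htr0 : ∀ b : Φ, b ∈ orbit H J := by
    rintro ⟨_, x, ⟨hx, hxX⟩, rfl⟩
    by_contra hno
    have h1 := hcount x hx hxX
    rw [Set.sdiff_singleton_eq_self (s := orbit H J) (a := bl x hx hxX) hno] at h1
    have h2 := hcount u hu huX
    rw [show bl u hu huX = J from rfl, Set.ncard_sdiff_singleton_of_mem (mem_orbit_self J)] at h2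
    have h3 : 0 < (orbit H J).ncard := (Set.ncard_pos (Set.toFinite _)).2 ⟨J, mem_orbit_self J⟩
    have h4 : 2 ^ r - 1 ∣ 1 := by
      have := Nat.dvd_sub h1 h2
      rwa [Nat.sub_sub_self h3] at this
    have := Nat.le_of_dvd one_pos h4
    omega
  have htr : ∀ a b : Φ, ∃ g : H, g • a = b := fun a b => by
    obtain ⟨g, rfl⟩ := htr0 a
    obtain ⟨g', rfl⟩ := htr0 b
    exact ⟨g' * g⁻¹, by simp [mul_smul]⟩
  -- the group `X / E`
  set EX := E.subgroupOf X with hEXdef
  haveI : EX.Normal := ⟨fun z hz s => by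
    rw [mem_subgroupOf] at hz ⊢
    show (s : G) * z * (s : G)⁻¹ ∈ E
    rw [d.conj_eset s.2.1 hz]
    exact hz⟩
  have hπ : ∀ {s t : X}, (s : X ⧸ EX) = t ↔ (s : G)⁻¹ * t ∈ E := fun {s t} => by
    rw [QuotientGroup.eq, mem_subgroupOf]; rfl
  letI : CommGroup (X ⧸ EX) :=
    { (inferInstance : Group (X ⧸ EX)) with
      mul_comm := fun a b => by
        induction a using QuotientGroup.induction_on with | H s => ?_
        induction b using QuotientGroup.induction_on with | H t => ?_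
        rw [← QuotientGroup.mk_mul, ← QuotientGroup.mk_mul, hπ]
        show ((s : G) * t)⁻¹ * ((t : G) * s) ∈ E
        have := d.comm_X hu hp he (inv_mem t.2) (inv_mem s.2)
        rwa [show (t : G)⁻¹ * (s : G)⁻¹ * (t : G)⁻¹⁻¹ * (s : G)⁻¹⁻¹ = ((s : G) * t)⁻¹ * ((t : G) * s) by group]
          at this }
  let cj : Nn → X →* X := fun g =>
    { toFun := fun s => ⟨(g : G) * s * (g : G)⁻¹, ((mem_classN.1 g.2).2 s).1 s.2⟩
      map_one' := Subtype.ext (by simp)
      map_mul' := fun s t => Subtype.ext (by simp [mul_assoc]) }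
  let φ : Nn → X ⧸ EX →* X ⧸ EX := fun g => QuotientGroup.map EX EX (cj g) fun z hz => by
    show (g : G) * ((z : X) : G) * (g : G)⁻¹ ∈ E
    exact d.E_conj g (mem_classN.1 g.2).1 _ hz
  have hφ : ∀ g (s : X), φ g (s : X ⧸ EX) = (cj g s : X ⧸ EX) := fun _ _ => rfl
  have hwd : ∀ g g' : Nn, ρ g = ρ g' → ∀ v, φ g v = φ g' v := by
    intro g g' h v
    have hk : ((g⁻¹ * g' : Nn) : G) ∈ X := (hker _).1 (by rw [map_mul, map_inv, h, inv_mul_cancel])
    induction v using QuotientGroup.induction_on with | H s => ?_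
    rw [hφ, hφ, hπ]
    show ((g : G) * s * (g : G)⁻¹)⁻¹ * ((g' : G) * s * (g' : G)⁻¹) ∈ E
    have := d.E_conj g (mem_classN.1 g.2).1 _ (d.comm_X hu hp he (inv_mem s.2) hk)
    rwa [show (g : G) * ((s : G)⁻¹ * ((g⁻¹ * g' : Nn) : G) * (s : G)⁻¹⁻¹ * ((g⁻¹ * g' : Nn) : G)⁻¹) * (g : G)⁻¹ =
      ((g : G) * s * (g : G)⁻¹)⁻¹ * ((g' : G) * s * (g' : G)⁻¹) by
        rw [Subgroup.coe_mul, Subgroup.coe_inv]; group] at this
  let sec : H → Nn := Function.surjInv ρ.rangeRestrict_surjective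
  have hsec : ∀ h : H, ρ (sec h) = h := fun h =>
    congrArg Subtype.val (Function.surjInv_eq ρ.rangeRestrict_surjective h)
  have hVs : ∀ v : Additive (X ⧸ EX), ∃ s : X, Additive.ofMul (s : X ⧸ EX) = v := fun v => by
    obtain ⟨s, hs⟩ := QuotientGroup.mk_surjective v.toMul
    exact ⟨s, congrArg Additive.ofMul hs⟩
  letI : DistribMulAction H (Additive (X ⧸ EX)) :=
    { smul := fun h v => Additive.ofMul (φ (sec h) v.toMul)
      one_smul := fun v => by
        show Additive.ofMul (φ (sec 1) v.toMul) = v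
        rw [hwd (sec 1) 1 (by rw [hsec, map_one]; rfl)]
        obtain ⟨s, rfl⟩ := hVs v
        refine congrArg Additive.ofMul ((hφ _ s).trans (congrArg QuotientGroup.mk (Subtype.ext ?_)))
        show ((1 : Nn) : G) * (s : G) * ((1 : Nn) : G)⁻¹ = (s : G)
        simp
      mul_smul := fun h h' v => by
        show Additive.ofMul (φ (sec (h * h')) v.toMul) = Additive.ofMul (φ (sec h) (φ (sec h') v.toMul))
        rw [hwd (sec (h * h')) (sec h * sec h') (by rw [hsec, map_mul, hsec, hsec]; rfl)]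
        obtain ⟨s, rfl⟩ := hVs v
        refine congrArg Additive.ofMul ((hφ _ s).trans (congrArg QuotientGroup.mk (Subtype.ext ?_)))
        show ((sec h * sec h' : Nn) : G) * (s : G) * ((sec h * sec h' : Nn) : G)⁻¹ =
          (sec h : G) * ((sec h' : G) * s * (sec h' : G)⁻¹) * (sec h : G)⁻¹
        rw [Subgroup.coe_mul]; group
      smul_zero := fun h => congrArg Additive.ofMul (map_one (φ (sec h)))
      smul_add := fun h v v' => congrArg Additive.ofMul (map_mul (φ (sec h)) v.toMul v'.toMul) }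
  have hV2 : ∀ v : Additive (X ⧸ EX), v + v = 0 := fun v => by
    obtain ⟨s, rfl⟩ := hVs v
    show Additive.ofMul ((s : X ⧸ EX) * (s : X ⧸ EX)) = Additive.ofMul 1
    rw [← QuotientGroup.mk_mul, ← QuotientGroup.mk_one EX]
    exact congrArg Additive.ofMul (hπ.2 (by simpa using inv_mem (d.sq_mem_E hu hp he s.2)))
  have hfaith : ∀ h : H, (∀ v : Additive (X ⧸ EX), h • v = v) → h = 1 := by
    intro h hh
    refine Subtype.ext ?_
    rw [← hsec h]
    refine (hker _).2 (d.mem_X_of_blocks hu hp he hbig (mem_classN.1 (sec h).2).1 fun x hx hxX => ?_)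
    have h1 : φ (sec h) ((⟨x, hxX⟩ : X) : X ⧸ EX) = ((⟨x, hxX⟩ : X) : X ⧸ EX) :=
      congrArg Additive.toMul (hh (Additive.ofMul ((⟨x, hxX⟩ : X) : X ⧸ EX)))
    have h2 : x⁻¹ * ((sec h : G) * x * (sec h : G)⁻¹) ∈ A x :=
      d.E_le_A x hx ((hπ (s := ⟨x, hxX⟩) (t := cj (sec h) ⟨x, hxX⟩)).1 h1.symm)
    have h3 := mul_mem (d.mem_self x hx) h2
    rwa [mul_inv_cancel_left] at h3
  -- the bound
  have hΦc : Nat.card Φ = Φ.ncard := Nat.card_coe_set_eq Φ
  obtain ⟨α, hα⟩ := d.two_group_A hu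
  have hLu := hLcard u hu huX
  have hD : 3 * 2 ^ r ≤ Nat.card (A u) - 2 ^ r := by omega
  have hNlt : Φ.ncard - 1 < 2 ^ r * 2 ^ r - 1 := by
    have h1 : (Φ.ncard - 1) * (3 * 2 ^ r) ≤ 2 ^ r * (2 ^ r - 1) * 2 ^ r :=
      (Nat.mul_le_mul_left _ hD).trans (hcb.trans (le_of_eq (by ring)))
    rw [← mul_assoc] at h1
    have h2 := Nat.le_of_mul_le_mul_right h1 (by omega)
    rw [Nat.mul_sub, mul_one] at h2
    have h3 : 16 ≤ 2 ^ r * 2 ^ r := Nat.mul_le_mul hq hq
    omega
  have hsize : Nat.card Φ < (1 + Nat.card (L u)) ^ 2 := by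
    rw [hLu, hΦc, Nat.add_sub_cancel' Nat.one_le_two_pow, pow_two]
    omega
  have hkey := BlockFix.one_block_odd (H := H) (B := Φ) (X := Additive (X ⧸ EX)) htr
    (J := J) (K := L u) (hLfix u hu huX) (hLsemi u hu huX) hsize hV2 hfaith
    (hΦc ▸ d.odd_classBlocks hu hp he hbig)
  rcases hkey with h1 | hbound
  · rw [hΦc] at h1
    omega
  have hV : Nat.card (Additive (X ⧸ EX)) = Nat.card (A u) * 2 ^ r := by
    have h := EX.card_mul_index
    rw [Nat.card_congr (subgroupOfEquivOfLe hEX).toEquiv, d.card_E, d.card_X hu hp he] at h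
    rw [show Nat.card (Additive (X ⧸ EX)) = EX.index from (index_eq_card EX).symm]
    exact Nat.eq_of_mul_eq_mul_left (Nat.two_pow_pos r) (h.trans (mul_comm _ _))
  rw [hLu, hV] at hbound
  have hAle : 2 * (Nat.card (A u) - 2 ^ r) ≤ 2 ^ r * 2 ^ r := by
    refine Nat.le_of_mul_le_mul_left ?_ (show 0 < 2 ^ r - 1 by omega)
    calc (2 ^ r - 1) * (2 * (Nat.card (A u) - 2 ^ r)) = 2 * (2 ^ r - 1) * (Nat.card (A u) - 2 ^ r) := by ring
      _ ≤ (Φ.ncard - 1) * (Nat.card (A u) - 2 ^ r) := Nat.mul_le_mul_right _ htwo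
      _ ≤ _ := hcb.trans (le_of_eq (mul_comm _ _))
  obtain ⟨t, ht⟩ := d.odd_r he
  have hr : r = 3 := by
    by_contra hr
    have hr5 : 5 ≤ r := by have := d.two_le; omega
    have h3r : ∀ s, 5 ≤ s → 3 * s + 1 ≤ 2 ^ s := fun s hs => by
      induction s, hs using Nat.le_induction with
      | base => norm_num
      | succ s _ ih => rw [pow_succ]; omega
    have h1 : 2 ^ (3 * r) ≤ 2 ^ (2 ^ r - 1) := Nat.pow_le_pow_right two_pos (by have := h3r r hr5; omega)
    have h2 : Nat.card (A u) < 2 ^ r * 2 ^ r := by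
      have : 16 ≤ 2 ^ r * 2 ^ r := Nat.mul_le_mul hq hq
      have h4 : 4 * 2 ^ r ≤ 2 ^ r * 2 ^ r := Nat.mul_le_mul_right _ hq
      omega
    have h3 := Nat.mul_lt_mul_of_pos_right h2 (Nat.two_pow_pos r)
    rw [show 3 * r = r + r + r by omega, pow_add, pow_add] at h1
    omega
  subst hr
  norm_num at hbound hAle hbig hcb htwo hdvd hsize
  have hA32 : Nat.card (A u) = 32 := by
    have hlt : α < 6 := by
      by_contra hge
      push Not at hge
      have := Nat.pow_le_pow_right two_pos hge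
      omega
    interval_cases α <;> omega
  rw [hA32] at hcb
  have h15 : Φ.ncard = 15 := by omega
  rcases OrbitVectors.prime_power_degree (H := H) (B := Φ) htr (J := J) (K := L u) (hLfix u hu huX)
    (hLsemi u hu huX) (by rw [hLu, hΦc, h15]; norm_num) with h | ⟨p, k, hp', hk, -⟩
  · omega
  · rw [hΦc, h15] at hk
    have h3 := (Nat.prime_dvd_prime_iff_eq Nat.prime_three hp').1 (Nat.prime_three.dvd_of_dvd_pow (hk ▸ (by norm_num : 3 ∣ 15)))
    have h5 := (Nat.prime_dvd_prime_iff_eq Nat.prime_five hp').1 (Nat.prime_five.dvd_of_dvd_pow (hk ▸ (by norm_num : 5 ∣ 15)))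
    omega

/-- A bad involution normalising a big block lies in it. -/
theorem no_partner {u w : G} (hu : u ∈ B) (hbig : 4 * 2 ^ r ≤ Nat.card (A u)) (hw : w ∈ B)
    (hn : ∀ x ∈ A u, w * x * w⁻¹ ∈ A u) : w ∈ A u := by
  by_contra h
  have hp : Partner B A u w := ⟨hw, h, hn⟩
  rcases d.e_cases with he | he
  · exact d.no_partner_one hu hp hbig he
  · exact d.no_partner_two hu hp he hbig

end BlockData

end Cfsg.Agent.GoodInvol
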