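import Cfsg.Agent.Lib.GoodInvol.Partner.Data
import Mathlib.GroupTheory.Exponent
import Mathlib.GroupTheory.SpecificGroups.Cyclic

/-!
# Partners: the basic facts and the type `L₂`

A partner acts trivially on the block modulo `E`, partners are symmetric, and the translates of a partner's block
under the torus give many partners with one value on `u`. For `e = 1` a value has one partner modulo `E`, so the
block of the partner is small; by symmetry the block `A u` is small.
-/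

set_option autoImplicit false
set_option linter.style.haveILetI false
set_option linter.unusedSectionVars false
set_option linter.unusedVariables false

namespace Cfsg.Agent.GoodInvol

open Subgroup

universe u

variable {G : Type u} [Group G]

theorem mem_cenE {M E : Subgroup G} {g : G} : g ∈ cenE M E ↔ g ∈ M ∧ ∀ z ∈ E, Commute z g :=
  mem_inf.trans (and_congr Iff.rfl mem_centralizer_iff)

theorem cenE_le (M E : Subgroup G) : cenE M E ≤ M := inf_le_left

/-- A bad involution outside the block of `u` normalising it. -/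
def Partner (B : Set G) (A : G → Subgroup G) (u w : G) : Prop :=
  w ∈ B ∧ w ∉ A u ∧ ∀ x ∈ A u, w * x * w⁻¹ ∈ A u

variable {M E : Subgroup G} {B : Set G} {A Q K : G → Subgroup G} {r e : ℕ}

namespace BlockData

variable (d : BlockData M E B A Q K r e)
include d

theorem q_ge : 4 ≤ 2 ^ r := by
  calc 4 = 2 ^ 2 := rfl
    _ ≤ _ := Nat.pow_le_pow_right two_pos d.two_le

theorem bad_inv {w : G} (hw : w ∈ B) : w⁻¹ = w := inv_eq_of_mul_eq_one_right (d.bad_sq w hw)

theorem bad_M {w : G} (hw : w ∈ B) : w ∈ M := cenE_le M E (d.bad_le w hw)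

theorem eset_comm {g z : G} (hg : g ∈ cenE M E) (hz : z ∈ E) : Commute z g := (mem_cenE.1 hg).2 z hz

theorem conj_eset {g z : G} (hg : g ∈ cenE M E) (hz : z ∈ E) : g * z * g⁻¹ = z := by
  rw [← (d.eset_comm hg hz).eq, mul_inv_cancel_right]

theorem conj_cenE {g c : G} (hg : g ∈ M) (hc : c ∈ cenE M E) : g * c * g⁻¹ ∈ cenE M E := by
  refine mem_cenE.2 ⟨M.mul_mem (M.mul_mem hg (cenE_le M E hc)) (M.inv_mem hg), fun z hz => ?_⟩
  have h := d.eset_comm hc (d.E_conj g⁻¹ (M.inv_mem hg) z hz)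
  show z * (g * c * g⁻¹) = g * c * g⁻¹ * z
  calc z * (g * c * g⁻¹) = g * (g⁻¹ * z * g⁻¹⁻¹ * c) * g⁻¹ := by group
    _ = g * (c * (g⁻¹ * z * g⁻¹⁻¹)) * g⁻¹ := by rw [h.eq]
    _ = _ := by group

theorem A_inv {w x : G} (hw : w ∈ B) (hx : x ∈ A w) : x⁻¹ = x := inv_eq_of_mul_eq_one_right (d.A_sq w hw x hx)

theorem A_commute {w x y : G} (hw : w ∈ B) (hx : x ∈ A w) (hy : y ∈ A w) : Commute x y := by
  show x * y = y * x
  conv_lhs => rw [← d.A_inv hw ((A w).mul_mem hx hy), mul_inv_rev, d.A_inv hw hx, d.A_inv hw hy]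

theorem not_mem_of_ne {u w : G} (hu : u ∈ B) (hw : w ∈ B) (h : w ∉ A u) : u ∉ A w := fun hm =>
  h ((d.A_bad w hw u hm (d.bad_not u hu)).2 ▸ d.mem_self w hw)

/-- An element of a block commuting with a partner lies in `E`. -/
theorem mem_of_commute {u w x : G} (hu : u ∈ B) (hp : Partner B A u w) (hx : x ∈ A u) (hc : Commute w x) :
    x ∈ E := by
  by_contra hxE
  obtain ⟨hxB, hAx⟩ := d.A_bad u hu x hx hxE
  exact hp.2.1 (hAx ▸ d.A_comm x hxB w hp.1 hc.symm)

/-- A partner acts trivially on the block modulo `E`. -/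
theorem act {u w x : G} (hu : u ∈ B) (hp : Partner B A u w) (hx : x ∈ A u) : w * x * w⁻¹ * x⁻¹ ∈ E := by
  have hwx := hp.2.2 x hx
  refine d.mem_of_commute hu hp (mul_mem hwx (inv_mem hx)) ?_
  have hc := (d.A_commute hu hwx hx).eq
  rw [d.A_inv hu hx, d.bad_inv hp.1] at *
  show w * (w * x * w * x) = w * x * w * x * w
  conv_rhs => rw [hc]
  calc w * (w * x * w * x) = (w * w) * (x * w * x) := by group
    _ = x * w * x * (w * w) := by rw [d.bad_sq w hp.1, one_mul, mul_one]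
    _ = x * (w * x * w) * w := by group

/-- A conjugate of the block by a commuting element is the block. -/
theorem A_eq_conj {u g : G} (hu : u ∈ B) (hg : g ∈ M) (hgu : Commute g u) {x : G} :
    x ∈ A u ↔ g * x * g⁻¹ ∈ A u := by
  have h := d.A_conj g hg u hu x
  rwa [show g * u * g⁻¹ = u by rw [hgu.eq, mul_inv_cancel_right]] at h

/-- An element moving a member of a block only by `E` normalises the block. -/
theorem A_normalised {w g : G} (hw : w ∈ B) (hg : g ∈ M) (h : g * w * g⁻¹ * w⁻¹ ∈ E) {x : G} :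
    x ∈ A w ↔ g * x * g⁻¹ ∈ A w := by
  have e1 : g * w * g⁻¹ = (g * w * g⁻¹ * w⁻¹) * w := by group
  have hm : g * w * g⁻¹ ∈ A w := by
    rw [e1]; exact mul_mem (d.E_le_A w hw h) (d.mem_self w hw)
  have hne : g * w * g⁻¹ ∉ E := fun hE => d.bad_not w hw (by
    have h2 := E.mul_mem (E.inv_mem h) hE
    rw [show (g * w * g⁻¹ * w⁻¹)⁻¹ * (g * w * g⁻¹) = w by group] at h2
    exact h2)
  have h' := d.A_conj g hg w hw x
  rwa [(d.A_bad w hw _ hm hne).2] at h'

/-- Partners are symmetric. -/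
theorem symm_mem {u w x : G} (hu : u ∈ B) (hp : Partner B A u w) (hx : x ∈ A u) (hxE : x ∉ E) :
    Partner B A w x := by
  obtain ⟨hxB, hAx⟩ := d.A_bad u hu x hx hxE
  refine ⟨hxB, d.not_mem_of_ne hxB hp.1 (hAx.symm ▸ hp.2.1), fun y hy => (d.A_normalised hp.1 (d.bad_M hxB) ?_).1 hy⟩
  have h := d.act hu hp hx
  rw [d.bad_inv hp.1, d.bad_inv hxB] at h ⊢
  have h2 := E.inv_mem h
  rwa [mul_inv_rev, mul_inv_rev, mul_inv_rev, d.bad_inv hxB, d.bad_inv hp.1,
    show x * (w * (x * w)) = x * w * x * w by group] at h2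

theorem symm {u w : G} (hu : u ∈ B) (hp : Partner B A u w) : Partner B A w u :=
  d.symm_mem hu hp (d.mem_self u hu) (d.bad_not u hu)

theorem partner_of_mem {u w y : G} (hu : u ∈ B) (hp : Partner B A u w) (hy : y ∈ A w) (hyE : y ∉ E) :
    Partner B A u y := d.symm_mem hp.1 (d.symm hu hp) hy hyE

/-- The torus moves partners to partners. -/
theorem partner_conj {u w k : G} (hu : u ∈ B) (hp : Partner B A u w) (hk : k ∈ K u) :
    Partner B A u (k * w * k⁻¹) := by
  have hkM := d.K_le u hu hk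
  have hku := d.K_commute u hu k hk
  refine ⟨d.conj k hkM w hp.1, fun hm => hp.2.1 ((d.A_eq_conj hu hkM hku).2 hm), fun x hx => ?_⟩
  have h1 : k⁻¹ * x * k ∈ A u := (d.A_eq_conj hu hkM hku).2 (by
    rwa [show k * (k⁻¹ * x * k) * k⁻¹ = x by group])
  have h2 := (d.A_eq_conj hu hkM hku).1 (hp.2.2 _ h1)
  rwa [show k * (w * (k⁻¹ * x * k) * w⁻¹) * k⁻¹ = k * w * k⁻¹ * x * (k * w * k⁻¹)⁻¹ by group] at h2

/-- The block of a partner moves `u` by `E` only. -/
theorem block_act {u w y : G} (hu : u ∈ B) (hp : Partner B A u w) (hy : y ∈ A w) :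
    y * u * y⁻¹ * u⁻¹ ∈ E := by
  by_cases hyE : y ∈ E
  · rw [(d.A_commute hu (d.E_le_A u hu hyE) (d.mem_self u hu)).eq, mul_inv_cancel_right, mul_inv_cancel]
    exact E.one_mem
  · exact d.act hu (d.partner_of_mem hu hp hy hyE) (d.mem_self u hu)

/-- Translates of a member of a partner's block by distinct torus elements differ. -/
theorem translate_inj {u w : G} (hu : u ∈ B) (hp : Partner B A u w) {k k' y y' : G} (hk : k ∈ K u)
    (hk' : k' ∈ K u) (hy : y ∈ A w) (hyE : y ∉ E) (hy' : y' ∈ A w)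
    (h : k * y * k⁻¹ = k' * y' * k'⁻¹) : k = k' ∧ y = y' := by
  obtain ⟨hyB, hAy⟩ := d.A_bad w hp.1 y hy hyE
  have hl : k'⁻¹ * k * y * (k'⁻¹ * k)⁻¹ = y' := by
    calc k'⁻¹ * k * y * (k'⁻¹ * k)⁻¹ = k'⁻¹ * (k * y * k⁻¹) * k' := by group
      _ = y' := by rw [h]; group
  have h1 : k'⁻¹ * k = 1 := by
    by_contra hne
    exact (d.partner_of_mem hu hp hy hyE).2.1
      (d.K_free u hu _ ((K u).mul_mem ((K u).inv_mem hk') hk) hne y hyB (by rw [hl, hAy]; exact hy')
        fun z hz => d.block_act hu hp (hAy ▸ hz))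
  refine ⟨(inv_mul_eq_one.1 h1).symm, ?_⟩
  rw [← hl, h1, one_mul, inv_one, mul_one]

/-- The value at `u` of a partner is a non-trivial element of `E`. -/
theorem value_ne {u w : G} (hu : u ∈ B) (hp : Partner B A u w) : w * u * w⁻¹ * u⁻¹ ≠ 1 := fun h => by
  have hc : Commute w u := mul_inv_eq_iff_eq_mul.1 (mul_inv_eq_one.1 h)
  exact d.bad_not u hu (d.mem_of_commute hu hp (d.mem_self u hu) hc)

/-- Two partners with one value differ by an element centralising `u`. -/
theorem commute_of_value {u w w' : G} (hu : u ∈ B) (hp : Partner B A u w) (hp' : Partner B A u w')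
    (h : w * u * w⁻¹ * u⁻¹ = w' * u * w'⁻¹ * u⁻¹) : Commute (w * w') u := by
  have hwu : w * u * w⁻¹ = w' * u * w'⁻¹ := mul_right_cancel h
  rw [d.bad_inv hp.1, d.bad_inv hp'.1] at hwu
  show w * w' * u = u * (w * w')
  calc w * w' * u = w * (w' * u * w') * w' := by
        conv_rhs => rw [show w * (w' * u * w') * w' = w * w' * u * (w' * w') by group, d.bad_sq w' hp'.1, mul_one]
    _ = w * (w * u * w) * w' := by rw [hwu]
    _ = (w * w) * u * (w * w') := by group
    _ = u * (w * w') := by rw [d.bad_sq w hp.1, one_mul]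

/-- A bound on the partners with one value bounds the partners. -/
theorem card_partners_le [Finite G] {u : G} (hu : u ∈ B) {n : ℕ}
    (hn : ∀ z ∈ E, z ≠ 1 → {w | Partner B A u w ∧ w * u * w⁻¹ * u⁻¹ = z}.ncard ≤ n) :
    {w | Partner B A u w}.ncard ≤ n * (2 ^ r - 1) := by
  classical
  haveI : Fintype G := Fintype.ofFinite G
  set Pi : Finset G := Finset.univ.filter (fun w => Partner B A u w) with hPi
  rw [show {w | Partner B A u w} = (Pi : Set G) by ext w; simp [hPi], Set.ncard_coe_finset]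
  have hE1 : ((E : Set G).toFinset.erase 1).card = 2 ^ r - 1 := by
    rw [Finset.card_erase_of_mem (Set.mem_toFinset.2 E.one_mem), Set.toFinset_card, ← Nat.card_eq_fintype_card,
      ← d.card_E]
    rfl
  have himg : Pi.image (fun w => w * u * w⁻¹ * u⁻¹) ⊆ (E : Set G).toFinset.erase 1 := by
    intro z hz
    obtain ⟨w, hw, rfl⟩ := Finset.mem_image.1 hz
    have hp := (Finset.mem_filter.1 hw).2
    exact Finset.mem_erase.2 ⟨d.value_ne hu hp, Set.mem_toFinset.2 (d.act hu hp (d.mem_self u hu))⟩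
  rw [← hE1]
  refine (Finset.card_le_mul_card_image Pi n fun z hz => ?_).trans (Nat.mul_le_mul_left n (Finset.card_le_card himg))
  have hzE := Finset.mem_erase.1 (himg hz)
  refine le_trans (le_of_eq ?_) (hn z (Set.mem_toFinset.1 hzE.2) hzE.1)
  rw [← Set.ncard_coe_finset]
  congr 1
  ext w
  simp [hPi]

/-- The translates of a partner's blocks give many partners with one value. -/
theorem count_le [Finite G] {u : G} (hu : u ∈ B) {W : Finset G} (hW : ∀ w ∈ W, Partner B A u w)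
    (hdis : ∀ w ∈ W, ∀ w' ∈ W, ∀ k ∈ K u, k * w * k⁻¹ ∈ A w' → w = w') {n : ℕ}
    (hn : ∀ z ∈ E, z ≠ 1 → {w | Partner B A u w ∧ w * u * w⁻¹ * u⁻¹ = z}.ncard ≤ n) :
    ∑ w ∈ W, (Nat.card (A w) - 2 ^ r) ≤ n := by
  classical
  haveI : Fintype G := Fintype.ofFinite G
  set KF : Finset G := (K u : Set G).toFinset with hKF
  set Pi : Finset G := Finset.univ.filter (fun w => Partner B A u w) with hPi
  set S : G → Finset G := fun w => (A w : Set G).toFinset \ (E : Set G).toFinset with hS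
  have hScard : ∀ w ∈ W, (S w).card = Nat.card (A w) - 2 ^ r := fun w hw => by
    rw [hS, Finset.card_sdiff_of_subset (fun x hx => Set.mem_toFinset.2 (d.E_le_A w (hW w hw).1 (Set.mem_toFinset.1 hx))),
      Set.toFinset_card, Set.toFinset_card, ← Nat.card_eq_fintype_card, ← Nat.card_eq_fintype_card, ← d.card_E]
    rfl
  have hmem : ∀ {w y : G}, y ∈ S w → y ∈ A w ∧ y ∉ E := fun hy => by
    obtain ⟨h1, h2⟩ := Finset.mem_sdiff.1 hy
    exact ⟨Set.mem_toFinset.1 h1, fun h => h2 (Set.mem_toFinset.2 h)⟩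
  have hKcard : KF.card = 2 ^ r - 1 := by
    rw [hKF, Set.toFinset_card, ← Nat.card_eq_fintype_card, ← d.K_card u hu]; rfl
  have h1 : (∑ w ∈ W, (S w).card) * KF.card ≤ Pi.card := by
    rw [← Finset.card_sigma, ← Finset.card_product]
    refine Finset.card_le_card_of_injOn (fun p => p.2 * p.1.2 * p.2⁻¹) (fun p hp => ?_) ?_
    · obtain ⟨hp1, hp2⟩ := Finset.mem_product.1 hp
      obtain ⟨hw, hy⟩ := Finset.mem_sigma.1 hp1
      exact Finset.mem_filter.2 ⟨Finset.mem_univ _, d.partner_conj hu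
        (d.partner_of_mem hu (hW _ hw) (hmem hy).1 (hmem hy).2) (Set.mem_toFinset.1 hp2)⟩
    · rintro ⟨⟨w, y⟩, k⟩ hp ⟨⟨w', y'⟩, k'⟩ hp' he
      obtain ⟨hp1, hk⟩ := Finset.mem_product.1 (Finset.mem_coe.1 hp)
      obtain ⟨hp1', hk'⟩ := Finset.mem_product.1 (Finset.mem_coe.1 hp')
      obtain ⟨hw, hy⟩ := Finset.mem_sigma.1 hp1
      obtain ⟨hw', hy'⟩ := Finset.mem_sigma.1 hp1'
      simp only at hk hk' hy hy' he hw hw'
      rw [hKF, Set.mem_toFinset, SetLike.mem_coe] at hk hk'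
      have hl : k'⁻¹ * k * w * (k'⁻¹ * k)⁻¹ ∈ A w' := by
        have hyl : k'⁻¹ * k * y * (k'⁻¹ * k)⁻¹ = y' := by
          calc k'⁻¹ * k * y * (k'⁻¹ * k)⁻¹ = k'⁻¹ * (k * y * k⁻¹) * k' := by group
            _ = y' := by rw [he]; group
        have hM : k'⁻¹ * k ∈ M := M.mul_mem (M.inv_mem (d.K_le u hu hk')) (d.K_le u hu hk)
        obtain ⟨hyB, hAy⟩ := d.A_bad w (hW w hw).1 y (hmem hy).1 (hmem hy).2
        have h2 := (d.A_conj _ hM y hyB w).1 (hAy ▸ d.mem_self w (hW w hw).1)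
        rwa [hyl, (d.A_bad w' (hW w' hw').1 y' (hmem hy').1 (hmem hy').2).2] at h2
      obtain rfl := hdis w hw w' hw' _ ((K u).mul_mem ((K u).inv_mem hk') hk) hl
      obtain ⟨rfl, rfl⟩ := d.translate_inj hu (hW w hw) hk hk' (hmem hy).1 (hmem hy).2 (hmem hy').1 he
      rfl
  have h2 : Pi.card ≤ n * (2 ^ r - 1) := by
    refine le_trans (le_of_eq ?_) (d.card_partners_le hu hn)
    rw [show {w | Partner B A u w} = (Pi : Set G) by ext w; simp [hPi], Set.ncard_coe_finset]
  rw [Finset.sum_congr rfl hScard, hKcard] at h1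
  have hq := d.q_ge
  exact Nat.le_of_mul_le_mul_right (h1.trans h2) (by omega)

theorem Q_eq_of_one [Finite G] {u : G} (hu : u ∈ B) (he : e = 1) : Q u = E :=
  (Subgroup.eq_of_le_of_card_ge (d.E_le_Q u hu) (by rw [d.Q_card u hu, he, one_mul, d.card_E])).symm

/-- For `e = 1` a partner's block is small. -/
theorem card_le_one [Finite G] {u w : G} (hu : u ∈ B) (hp : Partner B A u w) (he : e = 1) :
    Nat.card (A w) ≤ 2 * 2 ^ r := by
  classical
  have h := d.count_le hu (W := {w}) (fun w' hw' => (Finset.mem_singleton.1 hw') ▸ hp)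
    (fun a ha b hb _ _ _ => (Finset.mem_singleton.1 ha).trans (Finset.mem_singleton.1 hb).symm) (n := 2 ^ r)
    fun z _ _ => ?_
  · rw [Finset.sum_singleton] at h
    omega
  rcases Set.eq_empty_or_nonempty {w | Partner B A u w ∧ w * u * w⁻¹ * u⁻¹ = z} with h0 | ⟨w₁, hp₁, hz₁⟩
  · simp [h0]
  rw [← d.card_E, ← SetLike.coe_sort_coe, Nat.card_coe_set_eq]
  refine Set.ncard_le_ncard_of_injOn (fun w₂ => w₁ * w₂) ?_ (fun _ _ _ _ h => mul_left_cancel h) (Set.toFinite _)
  rintro w₂ ⟨hp₂, hz₂⟩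
  obtain ⟨x, hx, y, hy, e'⟩ := d.cent u hu (w₁ * w₂) (mul_mem (d.bad_le w₁ hp₁.1) (d.bad_le w₂ hp₂.1))
    (d.commute_of_value hu hp₁ hp₂ (hz₁.trans hz₂.symm))
  have hxA : w₁ * w₂ ∈ A u := by
    rw [e']
    exact mul_mem hx (d.E_le_A u hu ((d.Q_eq_of_one hu he) ▸ hy))
  refine d.mem_of_commute hu hp₁ hxA ?_
  have h3 := d.A_inv hu hxA
  rw [mul_inv_rev, d.bad_inv hp₁.1, d.bad_inv hp₂.1] at h3
  show w₁ * (w₁ * w₂) = w₁ * w₂ * w₁
  rw [mul_assoc w₁ w₂ w₁, h3]

/-- No big block has a partner, for `e = 1`. -/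
theorem no_partner_one [Finite G] {u w : G} (hu : u ∈ B) (hp : Partner B A u w)
    (hbig : 4 * 2 ^ r ≤ Nat.card (A u)) : e ≠ 1 := fun he => by
  have := d.card_le_one hp.1 (d.symm hu hp) he
  have := d.q_ge
  omega

end BlockData

end Cfsg.Agent.GoodInvol
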