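import Mathlib.GroupTheory.Sylow
import Mathlib.GroupTheory.QuotientGroup.Basic

/-!
# Partners of a block: the data

The bad involutions at a point, each with its block `A w` (the involutions of the block and the elementary group
`E`), the regular 2-subgroup `Q w` and the torus `K w`. A partner of the block `A u` is a bad involution outside
`A u` normalising it.
-/

set_option autoImplicit false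
set_option linter.style.haveILetI false
set_option linter.unusedSectionVars false

namespace Cfsg.Agent.GoodInvol

open Subgroup

universe u

variable {G : Type u} [Group G]

/-- The elements of `M` centralising `E`. -/
def cenE (M E : Subgroup G) : Subgroup G := M ⊓ centralizer (E : Set G)

/-- The data at the blocks. -/
structure BlockData (M E : Subgroup G) (B : Set G) (A Q K : G → Subgroup G) (r e : ℕ) : Prop where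
  two_le : 2 ≤ r
  e_cases : e = 1 ∨ e = 2
  odd_r : e = 2 → Odd r
  card_E : Nat.card E = 2 ^ r
  E_le : E ≤ M
  E_sq : ∀ z ∈ E, z * z = 1
  E_conj : ∀ g ∈ M, ∀ z ∈ E, g * z * g⁻¹ ∈ E
  -- the bad involutions
  conj : ∀ g ∈ M, ∀ w ∈ B, g * w * g⁻¹ ∈ B
  bad_le : ∀ w ∈ B, w ∈ cenE M E
  bad_sq : ∀ w ∈ B, w * w = 1
  bad_not : ∀ w ∈ B, w ∉ E
  -- the blocks
  mem_self : ∀ w ∈ B, w ∈ A w
  E_le_A : ∀ w ∈ B, E ≤ A w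
  A_le : ∀ w ∈ B, A w ≤ cenE M E
  A_sq : ∀ w ∈ B, ∀ x ∈ A w, x * x = 1
  A_bad : ∀ w ∈ B, ∀ x ∈ A w, x ∉ E → x ∈ B ∧ A x = A w
  A_conj : ∀ g ∈ M, ∀ w ∈ B, ∀ x, x ∈ A w ↔ g * x * g⁻¹ ∈ A (g * w * g⁻¹)
  A_comm : ∀ w ∈ B, ∀ w' ∈ B, Commute w w' → w' ∈ A w
  cent : ∀ w ∈ B, ∀ g ∈ cenE M E, Commute g w → ∃ x ∈ A w, ∃ y ∈ Q w, g = x * y
  -- the regular subgroup
  Q_le : ∀ w ∈ B, Q w ≤ cenE M E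
  E_le_Q : ∀ w ∈ B, E ≤ Q w
  Q_card : ∀ w ∈ B, Nat.card (Q w) = 2 ^ (e * r)
  Q_inf : ∀ w ∈ B, ∀ x ∈ A w, x ∈ Q w → x ∈ E
  Q_comm_A : ∀ w ∈ B, ∀ y ∈ Q w, ∀ x ∈ A w, Commute y x
  Q_sq : ∀ w ∈ B, ∀ y ∈ Q w, y * y ∈ E
  Q_comm : ∀ w ∈ B, ∀ y ∈ Q w, ∀ z ∈ Q w, y * z * y⁻¹ * z⁻¹ ∈ E
  Q_mem : ∀ w ∈ B, ∀ y ∈ Q w, y * y = 1 → y ∈ E
  -- the torus
  K_le : ∀ w ∈ B, K w ≤ M
  K_card : ∀ w ∈ B, Nat.card (K w) = 2 ^ r - 1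
  K_comm : ∀ w ∈ B, ∀ k ∈ K w, ∀ l ∈ K w, Commute k l
  K_commute : ∀ w ∈ B, ∀ k ∈ K w, Commute k w
  K_A : ∀ w ∈ B, ∀ k ∈ K w, ∀ x ∈ A w, k * x * k⁻¹ * x⁻¹ ∈ E
  K_Q : ∀ w ∈ B, ∀ k ∈ K w, ∀ y ∈ Q w, k * y * k⁻¹ ∈ Q w
  K_trans : ∀ w ∈ B, ∀ z ∈ E, ∀ z' ∈ E, z ≠ 1 → z' ≠ 1 → ∃ k ∈ K w, k * z * k⁻¹ = z'
  K_fpfQ : ∀ w ∈ B, ∀ k ∈ K w, ∀ y ∈ Q w, y ∉ E → k * y * k⁻¹ * y⁻¹ ∈ E → k = 1
  K_free : ∀ w ∈ B, ∀ k ∈ K w, k ≠ 1 → ∀ w' ∈ B, k * w' * k⁻¹ ∈ A w' →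
    (∀ y ∈ A w', y * w * y⁻¹ * w⁻¹ ∈ E) → w' ∈ A w
  K_norm : ∀ w ∈ B, ∀ g ∈ M, Commute g w → ∀ k ∈ K w, ∃ k' ∈ K w, ∀ z ∈ E,
    g * k * g⁻¹ * z * (g * k * g⁻¹)⁻¹ = k' * z * k'⁻¹
  invol : ∀ X : Subgroup G, X ≤ cenE M E → (∀ x ∈ X, x * x ∈ E) → 4 * 2 ^ r * 2 ^ (e * r) ≤ Nat.card X →
    ∀ g ∈ X, g * g = 1 → g ∉ E → g ∈ B

end Cfsg.Agent.GoodInvol
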