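import Cfsg.Agent.Lib.GoodInvol.Partner.Basic

/-!
# Partners: the group `X` of a block

For `e = 2` and a block `A u` with a partner let `X` be the elements of `C_M(E)` acting trivially on the block modulo
`E`. It is the same group for the blocks of the partners, so these have the size of `A u`, and `X / E` is elementary
abelian of order `|A u| q`.
-/

set_option autoImplicit false
set_option linter.style.haveILetI false
set_option linter.unusedSectionVars false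
set_option linter.unusedVariables false

namespace Cfsg.Agent.GoodInvol

open Subgroup

universe u

variable {G : Type u} [Group G]

/-- The elements of `cenE M E` acting trivially on `A0` modulo `E`. -/
def blockX (M E A0 : Subgroup G) : Subgroup G where
  carrier := {g | g ∈ cenE M E ∧ ∀ x ∈ A0, g * x * g⁻¹ * x⁻¹ ∈ E}
  one_mem' := ⟨one_mem _, fun x _ => by simp⟩
  mul_mem' := by
    rintro g h ⟨hg, hg'⟩ ⟨hh, hh'⟩
    refine ⟨mul_mem hg hh, fun x hx => ?_⟩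
    rw [show g * h * x * (g * h)⁻¹ * x⁻¹ = g * (h * x * h⁻¹ * x⁻¹) * g⁻¹ * (g * x * g⁻¹ * x⁻¹) by group,
      ← ((mem_cenE.1 hg).2 _ (hh' x hx)).eq, mul_inv_cancel_right]
    exact E.mul_mem (hh' x hx) (hg' x hx)
  inv_mem' := by
    rintro g ⟨hg, hg'⟩
    refine ⟨inv_mem hg, fun x hx => ?_⟩
    rw [show g⁻¹ * x * g⁻¹⁻¹ * x⁻¹ = g⁻¹ * (g * x * g⁻¹ * x⁻¹)⁻¹ * g by group, mul_assoc,
      ((mem_cenE.1 hg).2 _ (E.inv_mem (hg' x hx))).eq, inv_mul_cancel_left]
    exact E.inv_mem (hg' x hx)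

/-- The elements of `cenE M E` commuting with `u`. -/
def blockC (M E : Subgroup G) (u : G) : Subgroup G := cenE M E ⊓ centralizer ({u} : Set G)

theorem mem_blockC {M E : Subgroup G} {u g : G} : g ∈ blockC M E u ↔ g ∈ cenE M E ∧ Commute g u :=
  mem_inf.trans (and_congr Iff.rfl mem_centralizer_singleton_iff)

theorem mem_blockX {M E A0 : Subgroup G} {g : G} :
    g ∈ blockX M E A0 ↔ g ∈ cenE M E ∧ ∀ x ∈ A0, g * x * g⁻¹ * x⁻¹ ∈ E := Iff.rfl

variable {M E : Subgroup G} {B : Set G} {A Q K : G → Subgroup G} {r e : ℕ}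

namespace BlockData

variable (d : BlockData M E B A Q K r e)
include d

theorem eset_inv {z : G} (hz : z ∈ E) : z⁻¹ = z := inv_eq_of_mul_eq_one_right (d.E_sq z hz)

theorem X_le (u : G) : blockX M E (A u) ≤ cenE M E := fun _ hg => hg.1

theorem A_le_X {u : G} (hu : u ∈ B) : A u ≤ blockX M E (A u) := fun g hg =>
  ⟨d.A_le u hu hg, fun x hx => by rw [(d.A_commute hu hg hx).eq, mul_inv_cancel_right, mul_inv_cancel]; exact E.one_mem⟩

theorem partner_mem_X {u w : G} (hu : u ∈ B) (hp : Partner B A u w) : w ∈ blockX M E (A u) :=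
  ⟨d.bad_le w hp.1, fun x hx => d.act hu hp hx⟩

theorem blockC_commute {u g x : G} (hu : u ∈ B) (hg : g ∈ blockC M E u) (hx : x ∈ A u) : Commute g x := by
  obtain ⟨hgC, hgu⟩ := mem_blockC.1 hg
  obtain ⟨a, ha, y, hy, rfl⟩ := d.cent u hu g hgC hgu
  exact (d.A_commute hu ha hx).mul_left (d.Q_comm_A u hu y hy x hx)

theorem blockC_le {u : G} (hu : u ∈ B) : blockC M E u ≤ blockX M E (A u) := fun g hg =>
  ⟨(mem_blockC.1 hg).1, fun x hx => by
    rw [(d.blockC_commute hu hg hx).eq, mul_inv_cancel_right, mul_inv_cancel]; exact E.one_mem⟩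

theorem A_le_blockC {u : G} (hu : u ∈ B) : A u ≤ blockC M E u := fun g hg =>
  mem_blockC.2 ⟨d.A_le u hu hg, d.A_commute hu hg (d.mem_self u hu)⟩

theorem Q_le_blockC {u : G} (hu : u ∈ B) : Q u ≤ blockC M E u := fun g hg =>
  mem_blockC.2 ⟨d.Q_le u hu hg, d.Q_comm_A u hu g hg u (d.mem_self u hu)⟩

/-- The members of one block have one centraliser in `cenE M E`. -/
theorem blockC_eq {u x : G} (hu : u ∈ B) (hx : x ∈ A u) (hxE : x ∉ E) : blockC M E x = blockC M E u := by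
  obtain ⟨hxB, hAx⟩ := d.A_bad u hu x hx hxE
  refine le_antisymm (fun g hg => mem_blockC.2 ⟨(mem_blockC.1 hg).1, ?_⟩)
    (fun g hg => mem_blockC.2 ⟨(mem_blockC.1 hg).1, d.blockC_commute hu hg hx⟩)
  exact d.blockC_commute hxB hg (hAx ▸ d.mem_self u hu)

theorem val_mem {u g : G} (hu : u ∈ B) (hg : g ∈ blockX M E (A u)) {x : G} (hx : x ∈ A u) :
    g * x * g⁻¹ * x⁻¹ ∈ E := hg.2 x hx

theorem val_mul {u g h x : G} (hg : g ∈ blockX M E (A u)) (hh : h ∈ blockX M E (A u)) (hx : x ∈ A u) :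
    g * h * x * (g * h)⁻¹ * x⁻¹ = (h * x * h⁻¹ * x⁻¹) * (g * x * g⁻¹ * x⁻¹) := by
  rw [show g * h * x * (g * h)⁻¹ * x⁻¹ = g * (h * x * h⁻¹ * x⁻¹) * g⁻¹ * (g * x * g⁻¹ * x⁻¹) by group,
    d.conj_eset hg.1 (hh.2 x hx)]

/-- Equal values differ by an element of `blockC`. -/
theorem inv_mul_mem_blockC {u g h : G} (hg : g ∈ blockX M E (A u)) (hh : h ∈ blockX M E (A u))
    (he : g * u * g⁻¹ = h * u * h⁻¹) : g⁻¹ * h ∈ blockC M E u := by
  refine mem_blockC.2 ⟨mul_mem (inv_mem hg.1) hh.1, ?_⟩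
  show g⁻¹ * h * u = u * (g⁻¹ * h)
  calc g⁻¹ * h * u = g⁻¹ * (h * u * h⁻¹) * h := by group
    _ = g⁻¹ * (g * u * g⁻¹) * h := by rw [he]
    _ = u * (g⁻¹ * h) := by group

theorem K_conj_eset {u k z : G} (hu : u ∈ B) (hk : k ∈ K u) (hz : z ∈ E) : k * z * k⁻¹ ∈ E :=
  d.E_conj k (d.K_le u hu hk) z hz

/-- With a partner every element of `E` is a value. -/
theorem exists_value {u w z : G} (hu : u ∈ B) (hp : Partner B A u w) (hz : z ∈ E) :
    ∃ g ∈ blockX M E (A u), g * u * g⁻¹ * u⁻¹ = z ∧ (g = 1 ∨ Partner B A u g) := by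
  by_cases hz1 : z = 1
  · exact ⟨1, one_mem _, by simp [hz1], Or.inl rfl⟩
  obtain ⟨k, hk, hkz⟩ := d.K_trans u hu _ (d.act hu hp (d.mem_self u hu)) z hz (d.value_ne hu hp) hz1
  have hpk := d.partner_conj hu hp hk
  refine ⟨_, d.partner_mem_X hu hpk, ?_, Or.inr hpk⟩
  rw [← hkz]
  have hku : k⁻¹ * u * k = u := by rw [mul_assoc, ← (d.K_commute u hu k hk).eq, inv_mul_cancel_left]
  calc k * w * k⁻¹ * u * (k * w * k⁻¹)⁻¹ * u⁻¹ = k * w * (k⁻¹ * u * k) * w⁻¹ * (k⁻¹ * u * k)⁻¹ * k⁻¹ := by group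
    _ = k * (w * u * w⁻¹ * u⁻¹) * k⁻¹ := by rw [hku]; group

/-- An element acting trivially on one member of the block modulo `E` lies in `X`. -/
theorem mem_X_of_fix {u w g x : G} (hu : u ∈ B) (hp : Partner B A u w) (hg : g ∈ cenE M E) (hx : x ∈ A u)
    (hxE : x ∉ E) (h : g * x * g⁻¹ * x⁻¹ ∈ E) : g ∈ blockX M E (A u) := by
  obtain ⟨hxB, hAx⟩ := d.A_bad u hu x hx hxE
  have hp' : Partner B A x w := ⟨hp.1, hAx ▸ hp.2.1, hAx ▸ hp.2.2⟩
  obtain ⟨k, hk, hkz, -⟩ := d.exists_value hxB hp' h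
  have hkx : k * x * k⁻¹ = g * x * g⁻¹ := mul_right_cancel hkz
  have hc : k⁻¹ * g ∈ blockC M E x := by
    refine mem_blockC.2 ⟨mul_mem (inv_mem hk.1) hg, ?_⟩
    show k⁻¹ * g * x = x * (k⁻¹ * g)
    calc k⁻¹ * g * x = k⁻¹ * (g * x * g⁻¹) * g := by group
      _ = k⁻¹ * (k * x * k⁻¹) * g := by rw [hkx]
      _ = x * (k⁻¹ * g) := by group
  rw [← hAx]
  rw [show g = k * (k⁻¹ * g) by group]
  exact mul_mem hk (d.blockC_le hxB hc)

/-- An element of `cenE M E` normalising the block normalises `blockC`. -/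
theorem conj_blockC {u g c : G} (hu : u ∈ B) (hg : g ∈ cenE M E) (hgA : ∀ x ∈ A u, g⁻¹ * x * g ∈ A u)
    (hc : c ∈ blockC M E u) : g * c * g⁻¹ ∈ blockC M E u := by
  refine mem_blockC.2 ⟨mul_mem (mul_mem hg (mem_blockC.1 hc).1) (inv_mem hg), ?_⟩
  have h := (d.blockC_commute hu hc (hgA u (d.mem_self u hu))).eq
  show g * c * g⁻¹ * u = u * (g * c * g⁻¹)
  calc g * c * g⁻¹ * u = g * (c * (g⁻¹ * u * g)) * g⁻¹ := by group
    _ = g * (g⁻¹ * u * g * c) * g⁻¹ := by rw [h]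
    _ = u * (g * c * g⁻¹) := by group

variable [Finite G]

theorem card_blockC {u : G} (hu : u ∈ B) (he : e = 2) :
    Nat.card (blockC M E u) = Nat.card (A u) * 2 ^ r := by
  have hC : blockC M E u = A u ⊔ Q u := by
    refine le_antisymm (fun g hg => ?_) (sup_le (d.A_le_blockC hu) (d.Q_le_blockC hu))
    obtain ⟨a, ha, y, hy, rfl⟩ := d.cent u hu g (mem_blockC.1 hg).1 (mem_blockC.1 hg).2
    exact mul_mem (mem_sup_left ha) (mem_sup_right hy)
  have hN : Q u ≤ normalizer (A u : Set G) := by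
    intro y hy
    refine mem_normalizer_iff.2 fun x => ⟨fun hx => ?_, fun hx => ?_⟩
    · rw [(d.Q_comm_A u hu y hy x hx).eq, mul_inv_cancel_right]; exact hx
    · have h1 := (d.Q_comm_A u hu y hy _ hx).eq
      have : x = y * x * y⁻¹ := by
        calc x = y⁻¹ * (y * x * y⁻¹ * y) := by group
          _ = y⁻¹ * (y * (y * x * y⁻¹)) := by rw [h1]
          _ = y * x * y⁻¹ := by group
      rwa [this]
  have hinf : A u ⊓ Q u = E := le_antisymm (fun x hx => d.Q_inf u hu x hx.1 hx.2)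
    (_root_.le_inf (d.E_le_A u hu) (d.E_le_Q u hu))
  have h1 : (A u).relIndex (Q u) = 2 ^ r := by
    rw [← inf_relIndex_right, hinf]
    have h2 := relIndex_mul_relIndex ⊥ E (Q u) bot_le (d.E_le_Q u hu)
    rw [relIndex_bot_left, relIndex_bot_left, d.card_E, d.Q_card u hu, he, two_mul, pow_add] at h2
    exact Nat.eq_of_mul_eq_mul_left (Nat.two_pow_pos r) h2
  have h3 := relIndex_mul_relIndex ⊥ (A u) (A u ⊔ Q u) bot_le le_sup_left
  rw [relIndex_bot_left, relIndex_bot_left] at h3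
  rw [hC, ← h3]
  congr 1
  rw [← h1]
  set U := A u ⊔ Q u with hU
  haveI : ((A u).subgroupOf U).Normal := (normal_subgroupOf_iff_le_normalizer le_sup_left).2
    (sup_le le_normalizer hN)
  have h4 : ((A u).subgroupOf U).relIndex ((A u).subgroupOf U ⊔ (Q u).subgroupOf U) =
      ((A u).subgroupOf U).relIndex ((Q u).subgroupOf U) := relIndex_sup_left _ _
  have h5 : (A u).subgroupOf U ⊔ (Q u).subgroupOf U = ⊤ := by
    rw [← subgroupOf_sup (show A u ≤ U from le_sup_left) (show Q u ≤ U from le_sup_right)]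
    exact subgroupOf_eq_top.2 le_rfl
  rw [h5, relIndex_top_right, relIndex_subgroupOf (show Q u ≤ U from le_sup_right)] at h4
  exact h4

theorem card_X {u w : G} (hu : u ∈ B) (hp : Partner B A u w) (he : e = 2) :
    Nat.card (blockX M E (A u)) = Nat.card (A u) * 2 ^ r * 2 ^ r := by
  set X := blockX M E (A u) with hX
  let f : X →* E :=
    { toFun := fun g => ⟨(g : G) * u * (g : G)⁻¹ * u⁻¹, g.2.2 u (d.mem_self u hu)⟩
      map_one' := Subtype.ext (by simp)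
      map_mul' := fun g h => Subtype.ext (by
        show (g : G) * h * u * ((g : G) * h)⁻¹ * u⁻¹ = _
        rw [d.val_mul g.2 h.2 (d.mem_self u hu)]
        exact (d.eset_comm ((d.E_le_A u hu).trans (d.A_le u hu) (g.2.2 u (d.mem_self u hu))) (h.2.2 u (d.mem_self u hu))).eq) }
  have hsur : Function.Surjective f := fun z => by
    obtain ⟨g, hg, hgz, -⟩ := d.exists_value hu hp z.2
    exact ⟨⟨g, hg⟩, Subtype.ext hgz⟩
  have hker : f.ker = (blockC M E u).subgroupOf X := by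
    ext g
    rw [MonoidHom.mem_ker, mem_subgroupOf, mem_blockC, Subtype.ext_iff]
    show (g : G) * u * (g : G)⁻¹ * u⁻¹ = 1 ↔ _
    rw [mul_inv_eq_one, mul_inv_eq_iff_eq_mul]
    exact ⟨fun h => ⟨g.2.1, h⟩, fun h => h.2⟩
  have h1 := f.ker.card_mul_index
  rw [Subgroup.index_ker, MonoidHom.range_eq_top.2 hsur, Subgroup.card_top, d.card_E, hker,
    Nat.card_congr (subgroupOfEquivOfLe (d.blockC_le hu)).toEquiv, d.card_blockC hu he] at h1
  exact h1.symm

/-- Squaring is injective on `blockC` modulo the block. -/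
theorem eq_of_sq {u c c' : G} (hu : u ∈ B) (he : e = 2) (hc : c ∈ blockC M E u) (hc' : c' ∈ blockC M E u)
    (h : c * c = c' * c') : c⁻¹ * c' ∈ A u := by
  classical
  obtain ⟨a, ha, y, hy, rfl⟩ := d.cent u hu c (mem_blockC.1 hc).1 (mem_blockC.1 hc).2
  obtain ⟨a', ha', y', hy', rfl⟩ := d.cent u hu c' (mem_blockC.1 hc').1 (mem_blockC.1 hc').2
  have hsq : ∀ {a y : G}, a ∈ A u → y ∈ Q u → a * y * (a * y) = y * y := fun {a y} ha hy => by
    rw [mul_assoc, ← mul_assoc y a, (d.Q_comm_A u hu y hy a ha).eq, mul_assoc a y y, ← mul_assoc,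
      d.A_sq u hu a ha, one_mul]
  rw [hsq ha hy, hsq ha' hy'] at h
  obtain ⟨y0, hy0, hy0E⟩ : ∃ y0 ∈ Q u, y0 ∉ E := by
    by_contra hno
    push Not at hno
    have h1 := card_le_of_le (show Q u ≤ E from hno)
    rw [d.card_E, d.Q_card u hu, he, two_mul, pow_add] at h1
    have := d.q_ge
    nlinarith
  have hz0 : y0 * y0 ≠ 1 := fun e1 => hy0E (d.Q_mem u hu y0 hy0 e1)
  have hroot : ∀ z : E, ∃ yz : Q u, (yz : G) * yz = z := fun z => by
    by_cases hz : (z : G) = 1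
    · exact ⟨1, by simp [hz]⟩
    obtain ⟨k, hk, hkz⟩ := d.K_trans u hu _ (d.Q_sq u hu y0 hy0) z z.2 hz0 hz
    exact ⟨⟨_, d.K_Q u hu k hk y0 hy0⟩, by rw [← hkz]; group⟩
  choose root hrt using hroot
  have hmsq : ∀ (x : Q u) (t : E), ((x : G) * t) * ((x : G) * t) = x * x := fun x t => by
    have hc := (d.eset_comm (d.Q_le u hu x.2) t.2).eq
    rw [mul_assoc, ← mul_assoc (t : G), hc, mul_assoc (x : G) (t : G), d.E_sq t t.2, mul_one]
  let f : E × E → Q u := fun p => root p.1 * ⟨(p.2 : G), d.E_le_Q u hu p.2.2⟩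
  have hf : Function.Surjective f := by
    refine ((Nat.bijective_iff_injective_and_card f).2 ⟨?_, ?_⟩).2
    · rintro ⟨z, t⟩ ⟨z', t'⟩ e'
      have e2 : (root z : G) * t = (root z' : G) * t' := congrArg Subtype.val e'
      have e3 : z = z' := Subtype.ext (by rw [← hrt z, ← hrt z', ← hmsq (root z) t, e2, hmsq])
      subst e3
      exact Prod.ext rfl (Subtype.ext (mul_left_cancel e2))
    · rw [Nat.card_prod, d.card_E, d.Q_card u hu, he, two_mul, pow_add]
  have key : ∀ y ∈ Q u, ∀ z : E, y * y = z → ∃ t ∈ E, y = root z * t := fun y hy z hz => by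
    obtain ⟨⟨z', t⟩, e'⟩ := hf ⟨y, hy⟩
    have e2 : (root z' : G) * t = y := congrArg Subtype.val e'
    have e3 : z' = z := Subtype.ext (by rw [← hrt z', ← hmsq (root z') t, e2, hz])
    exact ⟨t, t.2, e3 ▸ e2.symm⟩
  obtain ⟨t, ht, ey⟩ := key y hy ⟨_, d.Q_sq u hu y hy⟩ rfl
  obtain ⟨t', ht', ey'⟩ := key y' hy' ⟨_, d.Q_sq u hu y hy⟩ h.symm
  have hd : y⁻¹ * y' ∈ A u := by
    rw [ey, ey', mul_inv_rev]
    rw [show t⁻¹ * (root ⟨_, d.Q_sq u hu y hy⟩ : G)⁻¹ * ((root ⟨_, d.Q_sq u hu y hy⟩ : G) * t') = t⁻¹ * t' by group]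
    exact mul_mem (inv_mem (d.E_le_A u hu ht)) (d.E_le_A u hu ht')
  rw [show (a * y)⁻¹ * (a' * y') = y⁻¹ * (a⁻¹ * a') * y * (y⁻¹ * y') by group]
  refine mul_mem ?_ hd
  rw [mul_assoc, ← (d.Q_comm_A u hu y hy _ (mul_mem (inv_mem ha) ha')).eq, inv_mul_cancel_left]
  exact mul_mem (inv_mem ha) ha'

/-- An element of `cenE M E` normalising the block fixes `blockC` modulo the block. -/
theorem comm_blockC {u g c : G} (hu : u ∈ B) (he : e = 2) (hg : g ∈ cenE M E)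
    (hgA : ∀ x ∈ A u, g⁻¹ * x * g ∈ A u) (hc : c ∈ blockC M E u) : c⁻¹ * (g * c * g⁻¹) ∈ A u := by
  refine d.eq_of_sq hu he hc (d.conj_blockC hu hg hgA hc) ?_
  obtain ⟨a, ha, y, hy, e'⟩ := d.cent u hu c (mem_blockC.1 hc).1 (mem_blockC.1 hc).2
  have h2 : c * c ∈ E := by
    rw [e', mul_assoc, ← mul_assoc y a, (d.Q_comm_A u hu y hy a ha).eq, mul_assoc a y y, ← mul_assoc,
      d.A_sq u hu a ha, one_mul]
    exact d.Q_sq u hu y hy
  rw [show g * c * g⁻¹ * (g * c * g⁻¹) = g * (c * c) * g⁻¹ by group, d.conj_eset hg h2]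

theorem X_normA {u g : G} (hu : u ∈ B) (hg : g ∈ blockX M E (A u)) : ∀ x ∈ A u, g⁻¹ * x * g ∈ A u := by
  intro x hx
  have h := d.val_mem hu ((blockX M E (A u)).inv_mem hg) hx
  have h2 := (A u).mul_mem (d.E_le_A u hu h) hx
  rwa [inv_mul_cancel_right, inv_inv] at h2

theorem conj_A {u g a : G} (hu : u ∈ B) (hg : g ∈ blockX M E (A u)) (ha : a ∈ A u) : g * a * g⁻¹ ∈ A u := by
  have h := d.X_normA hu ((blockX M E (A u)).inv_mem hg) a ha
  rwa [inv_inv] at h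

/-- Squares in `X` lie in the block. -/
theorem sq_mem_A {u w g : G} (hu : u ∈ B) (hp : Partner B A u w) (he : e = 2)
    (hg : g ∈ blockX M E (A u)) : g * g ∈ A u := by
  obtain ⟨t, ht, htz, htp⟩ := d.exists_value hu hp (d.val_mem hu hg (d.mem_self u hu))
  have hc := d.inv_mul_mem_blockC ht hg (mul_right_cancel htz)
  set c := t⁻¹ * g with hcdef
  have hg' : g = t * c := by rw [hcdef, mul_inv_cancel_left]
  have hc2 : c * c ∈ A u := by
    obtain ⟨a, ha, y, hy, e'⟩ := d.cent u hu c (mem_blockC.1 hc).1 (mem_blockC.1 hc).2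
    rw [e', mul_assoc, ← mul_assoc y a, (d.Q_comm_A u hu y hy a ha).eq, mul_assoc a y y, ← mul_assoc,
      d.A_sq u hu a ha, one_mul]
    exact d.E_le_A u hu (d.Q_sq u hu y hy)
  rcases htp with rfl | htp
  · rwa [hg', one_mul]
  have ha := d.comm_blockC hu he ht.1 (d.X_normA hu ht) hc
  rw [hg', show t * c * (t * c) = t * c * t⁻¹ * (t * t) * c by group, d.bad_sq t htp.1, mul_one,
    show t * c * t⁻¹ * c = c * (c⁻¹ * (t * c * t⁻¹)) * c by group,
    (d.blockC_commute hu hc ha).eq, mul_assoc]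
  exact mul_mem ha hc2

/-- An element of `X` moves a partner by `E` only. -/
theorem comm_partner {u w g : G} (hu : u ∈ B) (hp : Partner B A u w) (he : e = 2)
    (hg : g ∈ blockX M E (A u)) : g * w * g⁻¹ * w⁻¹ ∈ E := by
  have hw := d.partner_mem_X hu hp
  set X := blockX M E (A u)
  set x := g * w * g⁻¹ * w⁻¹ with hx
  have hxA : x ∈ A u := by
    rw [hx, show g * w * g⁻¹ * w⁻¹ = g * g * ((g⁻¹ * w) * (g⁻¹ * w)) * (w * w)⁻¹ by group, d.bad_sq w hp.1,
      inv_one, mul_one]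
    exact mul_mem (d.sq_mem_A hu hp he hg) (d.sq_mem_A hu hp he (mul_mem (inv_mem hg) hw))
  refine d.mem_of_commute hu hp hxA ?_
  have h2 : x * w * (x * w) = 1 := by
    rw [show x * w = g * w * g⁻¹ by rw [hx]; group, show g * w * g⁻¹ * (g * w * g⁻¹) = g * (w * w) * g⁻¹ by group,
      d.bad_sq w hp.1]
    group
  show w * x = x * w
  calc w * x = (x * x) * (w * x) * (w * w) := by rw [d.A_sq u hu x hxA, d.bad_sq w hp.1, one_mul, mul_one]
    _ = x * (x * w * (x * w)) * w := by group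
    _ = x * w := by rw [h2, mul_one]

theorem X_le_partner {u w : G} (hu : u ∈ B) (hp : Partner B A u w) (he : e = 2) :
    blockX M E (A u) ≤ blockX M E (A w) := fun g hg =>
  ⟨hg.1, fun y hy => by
    by_cases hyE : y ∈ E
    · rw [d.conj_eset hg.1 hyE, mul_inv_cancel]; exact E.one_mem
    · exact d.comm_partner hu (d.partner_of_mem hu hp hy hyE) he hg⟩

/-- The group is the same for a partner. -/
theorem X_eq {u w : G} (hu : u ∈ B) (hp : Partner B A u w) (he : e = 2) :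
    blockX M E (A w) = blockX M E (A u) :=
  le_antisymm (d.X_le_partner hp.1 (d.symm hu hp) he) (d.X_le_partner hu hp he)

theorem card_A_eq {u w : G} (hu : u ∈ B) (hp : Partner B A u w) (he : e = 2) :
    Nat.card (A w) = Nat.card (A u) := by
  have h1 := d.card_X hu hp he
  rw [← d.X_eq hu hp he, d.card_X hp.1 (d.symm hu hp) he] at h1
  exact Nat.eq_of_mul_eq_mul_right (Nat.two_pow_pos r) (Nat.eq_of_mul_eq_mul_right (Nat.two_pow_pos r) h1)

/-- Commutators of `X` lie in `E`. -/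
theorem comm_X {u w g h : G} (hu : u ∈ B) (hp : Partner B A u w) (he : e = 2)
    (hg : g ∈ blockX M E (A u)) (hh : h ∈ blockX M E (A u)) : g * h * g⁻¹ * h⁻¹ ∈ E := by
  set X := blockX M E (A u)
  have hsplit : ∀ g ∈ X, ∀ t c : G, t ∈ X → c ∈ X → g * t * g⁻¹ * t⁻¹ ∈ E → g * c * g⁻¹ * c⁻¹ ∈ E →
      g * (t * c) * g⁻¹ * (t * c)⁻¹ ∈ E := fun g hg t c ht hc h1 h2 => by
    rw [show g * (t * c) * g⁻¹ * (t * c)⁻¹ = g * t * g⁻¹ * t⁻¹ * (t * (g * c * g⁻¹ * c⁻¹) * t⁻¹) by group,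
      d.conj_eset ht.1 h2]
    exact E.mul_mem h1 h2
  have hdec : ∀ g ∈ X, ∃ t c, t ∈ X ∧ (t = 1 ∨ Partner B A u t) ∧ c ∈ blockC M E u ∧ g = t * c := fun g hg => by
    obtain ⟨t, ht, htz, htp⟩ := d.exists_value hu hp (d.val_mem hu hg (d.mem_self u hu))
    exact ⟨t, t⁻¹ * g, ht, htp, d.inv_mul_mem_blockC ht hg (mul_right_cancel htz), (mul_inv_cancel_left t g).symm⟩
  have ht1 : ∀ g ∈ X, ∀ t, (t = 1 ∨ Partner B A u t) → g * t * g⁻¹ * t⁻¹ ∈ E := by
    rintro g hg t (rfl | ht)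
    · simp
    · exact d.comm_partner hu ht he hg
  have hc : ∀ g ∈ X, ∀ c ∈ blockC M E u, g * c * g⁻¹ * c⁻¹ ∈ E := by
    intro g hg c hc
    obtain ⟨t, c1, ht, htp, hc1, rfl⟩ := hdec g hg
    have h1 : c1 * c * c1⁻¹ * c⁻¹ ∈ E := by
      obtain ⟨a, ha, y, hy, e1⟩ := d.cent u hu c (mem_blockC.1 hc).1 (mem_blockC.1 hc).2
      obtain ⟨a', ha', y', hy', e2⟩ := d.cent u hu c1 (mem_blockC.1 hc1).1 (mem_blockC.1 hc1).2
      have ha'c : Commute c a' := d.blockC_commute hu hc ha'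
      have hay : Commute y' a := d.Q_comm_A u hu y' hy' a ha
      rw [e2, show a' * y' * c * (a' * y')⁻¹ * c⁻¹ = a' * (y' * c * y'⁻¹ * c⁻¹) * (c * a'⁻¹ * c⁻¹) by group,
        ha'c.inv_right.eq, mul_inv_cancel_right, e1,
        show y' * (a * y) * y'⁻¹ * (a * y)⁻¹ = (y' * a) * y * y'⁻¹ * y⁻¹ * a⁻¹ by group, hay.eq,
        show a * y' * y * y'⁻¹ * y⁻¹ * a⁻¹ = a * (y' * y * y'⁻¹ * y⁻¹) * a⁻¹ by group,
        d.conj_eset (d.A_le u hu ha) (d.Q_comm u hu y' hy' y hy),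
        d.conj_eset (d.A_le u hu ha') (d.Q_comm u hu y' hy' y hy)]
      exact d.Q_comm u hu y' hy' y hy
    have h2 : t * c * t⁻¹ * c⁻¹ ∈ E := by
      have := E.inv_mem (ht1 c (d.blockC_le hu hc) t htp)
      rwa [show (c * t * c⁻¹ * t⁻¹)⁻¹ = t * c * t⁻¹ * c⁻¹ by group] at this
    rw [show t * c1 * c * (t * c1)⁻¹ * c⁻¹ = t * (c1 * c * c1⁻¹ * c⁻¹) * t⁻¹ * (t * c * t⁻¹ * c⁻¹) by group,
      d.conj_eset ht.1 h1]
    exact E.mul_mem h1 h2
  obtain ⟨t, c, ht, htp, hcC, rfl⟩ := hdec h hh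
  exact hsplit g hg t c ht (d.blockC_le hu hcC) (ht1 g hg t htp) (hc g hg c hcC)

/-- Squares of `X` lie in `E`. -/
theorem sq_mem_E {u w g : G} (hu : u ∈ B) (hp : Partner B A u w) (he : e = 2)
    (hg : g ∈ blockX M E (A u)) : g * g ∈ E := by
  obtain ⟨t, ht, htz, htp⟩ := d.exists_value hu hp (d.val_mem hu hg (d.mem_self u hu))
  have hc := d.inv_mul_mem_blockC ht hg (mul_right_cancel htz)
  set c := t⁻¹ * g with hcdef
  have hg' : g = t * c := by rw [hcdef, mul_inv_cancel_left]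
  have hc2 : c * c ∈ E := by
    obtain ⟨a, ha, y, hy, e'⟩ := d.cent u hu c (mem_blockC.1 hc).1 (mem_blockC.1 hc).2
    rw [e', mul_assoc, ← mul_assoc y a, (d.Q_comm_A u hu y hy a ha).eq, mul_assoc a y y, ← mul_assoc,
      d.A_sq u hu a ha, one_mul]
    exact d.Q_sq u hu y hy
  have ht2 : t * t ∈ E := by
    rcases htp with rfl | h
    · simp
    · rw [d.bad_sq t h.1]; exact E.one_mem
  have h1 := d.comm_X hu hp he (d.blockC_le hu hc) ht
  rw [hg', show t * c * (t * c) = t * (c * t * c⁻¹ * t⁻¹) * t⁻¹ * ((t * t) * (c * c)) by group,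
    d.conj_eset ht.1 h1]
  exact E.mul_mem h1 (E.mul_mem ht2 hc2)

end BlockData

end Cfsg.Agent.GoodInvol
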