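import Cfsg.Agent.Lib.GoodInvol.Partner.SzFix
import Cfsg.Agent.Lib.GoodInvol.SquareCount
import Cfsg.Agent.Lib.GoodInvol.Basic

/-!
# Partners: the class of a block

For `e = 2` the bad involutions in `X` fall into an odd number of blocks of one size, the torus of `u` moves each
other one freely, nothing outside `X` in `C_M(E)` normalises `A u`, nothing in `M` outside `X` fixes all blocks
and no element of `M` has its square in `X` without lying in it.
-/

set_option autoImplicit false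
set_option linter.style.haveILetI false
set_option linter.unusedSectionVars false
set_option linter.unusedVariables false

namespace Cfsg.Agent.GoodInvol

open Subgroup

universe u

variable {G : Type u} [Group G]

/-- The blocks of the bad involutions in `X`. -/
def classBlocks (B : Set G) (A : G → Subgroup G) (X : Subgroup G) : Set (Subgroup G) :=
  A '' {x | x ∈ B ∧ x ∈ X}

variable {M E : Subgroup G} {B : Set G} {A Q K : G → Subgroup G} {r e : ℕ}

namespace BlockData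

variable (d : BlockData M E B A Q K r e)
include d

theorem regular [Finite G] {u k z : G} (hu : u ∈ B) (hk : k ∈ K u) (hz : z ∈ E) (hz1 : z ≠ 1)
    (h : k * z * k⁻¹ = z) : k = 1 := by
  classical
  let f : K u → ((E : Set G) \ {1} : Set G) := fun l => ⟨(l : G) * z * (l : G)⁻¹, d.K_conj_eset hu l.2 hz,
    fun e1 => hz1 (by
      rw [Set.mem_singleton_iff, mul_inv_eq_one] at e1
      exact mul_left_cancel (a := (l : G)) (e1.trans (mul_one _).symm))⟩
  have hf : Function.Surjective f := by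
    rintro ⟨z', hz', hz'1⟩
    obtain ⟨l, hl, he⟩ := d.K_trans u hu z hz z' hz' hz1 hz'1
    exact ⟨⟨l, hl⟩, Subtype.ext he⟩
  have hcard : Nat.card (K u) = Nat.card ((E : Set G) \ {1} : Set G) := by
    rw [d.K_card u hu, Nat.card_coe_set_eq, Set.ncard_sdiff_singleton_of_mem (SetLike.mem_coe.2 E.one_mem),
      ← Nat.card_coe_set_eq, SetLike.coe_sort_coe, d.card_E]
  have hinj := ((Nat.bijective_iff_surjective_and_card f).2 ⟨hf, hcard⟩).1
  have := hinj (a₁ := ⟨k, hk⟩) (a₂ := 1) (Subtype.ext (by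
    show k * z * k⁻¹ = ((1 : K u) : G) * z * ((1 : K u) : G)⁻¹
    rw [h, OneMemClass.coe_one, one_mul, inv_one, mul_one]))
  exact congrArg Subtype.val this

/-- An element commuting with a bad involution, whose square centralises `E`, centralises `E` for odd `r`. -/
theorem cen_of_commute [Finite G] {w g : G} (hw : w ∈ B) (hr : Odd r) (hg : g ∈ M) (hgw : Commute g w)
    (hg2 : g * g ∈ cenE M E) : g ∈ cenE M E := by
  classical
  refine mem_cenE.2 ⟨hg, fun z hz => ?_⟩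
  suffices hfix : g * z * g⁻¹ = z from (mul_inv_eq_iff_eq_mul.1 hfix).symm
  let F0 : Subgroup G := E ⊓ centralizer ({g} : Set G)
  have hF0 : ∀ {y}, y ∈ F0 ↔ y ∈ E ∧ g * y * g⁻¹ = y := fun {y} =>
    mem_inf.trans (and_congr Iff.rfl (mem_centralizer_singleton_iff.trans
      (eq_comm.trans mul_inv_eq_iff_eq_mul.symm)))
  have hgg : ∀ y ∈ E, g * (g * y * g⁻¹) * g⁻¹ = y := fun y hy => by
    rw [show g * (g * y * g⁻¹) * g⁻¹ = g * g * y * (g * g)⁻¹ by group, d.conj_eset hg2 hy]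
  have hEc : ∀ {a b}, a ∈ E → b ∈ E → a * b = b * a := fun ha hb =>
    (d.eset_comm (d.A_le w hw (d.E_le_A w hw hb)) ha).eq
  let f : E →* F0 :=
    { toFun := fun y => ⟨(y : G) * (g * y * g⁻¹), hF0.2 ⟨E.mul_mem y.2 (d.E_conj g hg y y.2), by
        rw [show g * ((y : G) * (g * y * g⁻¹)) * g⁻¹ = g * y * g⁻¹ * (g * (g * y * g⁻¹) * g⁻¹) by group,
          hgg y y.2, hEc (d.E_conj g hg y y.2) y.2]⟩⟩
      map_one' := Subtype.ext (by simp)
      map_mul' := fun a b => Subtype.ext (by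
        show (a : G) * b * (g * ((a : G) * b) * g⁻¹) = (a : G) * (g * a * g⁻¹) * ((b : G) * (g * b * g⁻¹))
        calc (a : G) * b * (g * ((a : G) * b) * g⁻¹) = (a : G) * ((b : G) * (g * a * g⁻¹)) * (g * b * g⁻¹) := by group
          _ = _ := by rw [hEc b.2 (d.E_conj g hg a a.2)]; group) }
  have hker : Nat.card f.ker ≤ Nat.card F0 := by
    refine Nat.card_le_card_of_injective (fun x : f.ker => (⟨((x : E) : G), hF0.2 ⟨(x : E).2, ?_⟩⟩ : F0))
      fun x y hxy => Subtype.ext (Subtype.ext (by exact congrArg (fun c : F0 => (c : G)) hxy))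
    have h1 : ((x : E) : G) * (g * (x : E) * g⁻¹) = 1 := congrArg Subtype.val x.2
    rw [eq_inv_of_mul_eq_one_right h1, d.eset_inv (x : E).2]
  have hidx : f.ker.index ≤ Nat.card F0 := by
    rw [Subgroup.index_ker]; exact Nat.card_le_card_of_injective _ Subtype.val_injective
  have hsq : 2 ^ r ≤ Nat.card F0 * Nat.card F0 := by
    rw [← d.card_E, ← f.ker.card_mul_index]; exact Nat.mul_le_mul hker hidx
  obtain ⟨z0, hz0, hz01⟩ : ∃ z0 ∈ F0, z0 ≠ 1 := by
    by_contra! hno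
    have hle : Nat.card F0 ≤ 1 := by rw [(eq_bot_iff_forall F0).2 hno, card_bot]
    have h4 := d.q_ge
    nlinarith
  -- the torus elements commuting with `g` on `E`
  let K0 : Subgroup G :=
    { carrier := {k | k ∈ K w ∧ ∀ y ∈ E, g * (k * y * k⁻¹) * g⁻¹ = k * (g * y * g⁻¹) * k⁻¹}
      one_mem' := ⟨one_mem _, fun y _ => by simp⟩
      mul_mem' := fun {a b} ha hb => ⟨mul_mem ha.1 hb.1, fun y hy => by
        rw [show a * b * y * (a * b)⁻¹ = a * (b * y * b⁻¹) * a⁻¹ by group, ha.2 _ (d.K_conj_eset hw hb.1 hy),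
          hb.2 y hy]
        group⟩
      inv_mem' := fun {a} ha => ⟨inv_mem ha.1, fun y hy => by
        have hy' := d.K_conj_eset hw (inv_mem ha.1) hy
        have h1 := ha.2 _ hy'
        rw [show a * (a⁻¹ * y * a⁻¹⁻¹) * a⁻¹ = y by group] at h1
        rw [h1]; group⟩ }
  have hbij : Nat.card K0 = Nat.card F0 - 1 := by
    rw [show Nat.card F0 - 1 = Nat.card ((F0 : Set G) \ {1} : Set G) by
      rw [Nat.card_coe_set_eq, Set.ncard_sdiff_singleton_of_mem (SetLike.mem_coe.2 F0.one_mem),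
        ← Nat.card_coe_set_eq]; rfl]
    refine Nat.card_eq_of_bijective (fun k : K0 => (⟨(k : G) * z0 * (k : G)⁻¹, ⟨hF0.2 ⟨d.K_conj_eset hw k.2.1
      (hF0.1 hz0).1, by rw [k.2.2 z0 (hF0.1 hz0).1, (hF0.1 hz0).2]⟩, fun e1 => hz01 ?_⟩⟩ :
        ((F0 : Set G) \ {1} : Set G))) ⟨fun a b hab => Subtype.ext ?_, ?_⟩
    · rw [Set.mem_singleton_iff, mul_inv_eq_one] at e1
      exact mul_left_cancel (a := (k : G)) (e1.trans (mul_one _).symm)
    · have h1 : (a : G) * z0 * (a : G)⁻¹ = (b : G) * z0 * (b : G)⁻¹ := congrArg Subtype.val hab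
      exact (inv_mul_eq_one.1 (d.regular hw (mul_mem (inv_mem b.2.1) a.2.1) (hF0.1 hz0).1 hz01 (by
        rw [show (b : G)⁻¹ * a * z0 * ((b : G)⁻¹ * a)⁻¹ = (b : G)⁻¹ * ((a : G) * z0 * (a : G)⁻¹) * b by group, h1]
        group))).symm
    · rintro ⟨y, hy, hy1⟩
      obtain ⟨k, hk, hky⟩ := d.K_trans w hw z0 (hF0.1 hz0).1 y (hF0.1 hy).1 hz01 hy1
      obtain ⟨k', hk', hk'E⟩ := d.K_norm w hw g hg hgw k hk
      have hconj : ∀ x ∈ E, g * (k * x * k⁻¹) * g⁻¹ = k' * (g * x * g⁻¹) * k'⁻¹ := fun x hx => by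
        rw [← hk'E _ (d.E_conj g hg x hx)]; group
      have h1 := hconj z0 (hF0.1 hz0).1
      rw [(hF0.1 hz0).2, hky, (hF0.1 hy).2] at h1
      have h2 : k'⁻¹ * k = 1 := d.regular hw (mul_mem (inv_mem hk') hk) (hF0.1 hz0).1 hz01 (by
        rw [show k'⁻¹ * k * z0 * (k'⁻¹ * k)⁻¹ = k'⁻¹ * (k * z0 * k⁻¹) * k' by group, hky, h1]
        group)
      rw [inv_mul_eq_one] at h2
      subst h2
      exact ⟨⟨k', hk, hconj⟩, Subtype.ext hky⟩
  have hdvd : Nat.card F0 - 1 ∣ 2 ^ r - 1 := by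
    rw [← hbij, ← d.K_card w hw]
    exact card_dvd_of_le fun k hk => hk.1
  haveI : Fact (Nat.Prime 2) := ⟨Nat.prime_two⟩
  have hF2 : IsPGroup 2 F0 := fun y => ⟨1, Subtype.ext (by simpa [pow_two] using d.E_sq _ (hF0.1 y.2).1)⟩
  obtain ⟨s, hs⟩ := IsPGroup.iff_card.1 hF2
  have hsr : 2 ^ s ≤ 2 ^ r := by rw [← hs, ← d.card_E]; exact card_le_of_le inf_le_left
  rw [hs, ← pow_add] at hsq
  rw [hs] at hdvd
  have hr2 : r ≤ s + s := (Nat.pow_le_pow_iff_right (le_refl 2)).1 hsq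
  have hsr' : s ≤ r := (Nat.pow_le_pow_iff_right (le_refl 2)).1 hsr
  rcases hsr'.lt_or_eq with hlt | rfl
  · exfalso
    have hr3 := d.two_le
    have hs1 : 0 < s := by omega
    have h1 : 2 ^ r - 1 = 2 ^ (r - s) * (2 ^ s - 1) + (2 ^ (r - s) - 1) := by
      have h2 : 2 ^ (r - s) * 2 ^ s = 2 ^ r := by rw [← pow_add, Nat.sub_add_cancel hlt.le]
      have h3 : 2 ^ (r - s) ≤ 2 ^ (r - s) * 2 ^ s := Nat.le_mul_of_pos_right _ (by positivity)
      have h4 : 1 ≤ 2 ^ (r - s) := Nat.one_le_two_pow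
      rw [Nat.mul_sub, mul_one]
      omega
    rw [h1, Nat.dvd_add_right (dvd_mul_left _ _)] at hdvd
    have h5 : 2 ≤ 2 ^ (r - s) := by
      calc 2 = 2 ^ 1 := rfl
        _ ≤ _ := Nat.pow_le_pow_right two_pos (by omega)
    have h6 := Nat.le_of_dvd (by omega) hdvd
    have h7 : s ≤ r - s := (Nat.pow_le_pow_iff_right (le_refl 2)).1 (by
      have := Nat.one_le_two_pow (n := s)
      omega)
    obtain ⟨c, hc⟩ := hr
    omega
  · have : F0 = E := eq_of_le_of_card_ge inf_le_left (by rw [hs, d.card_E])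
    exact (hF0.1 (this.ge hz)).2

/-- Facts on a bad involution in `X`: outside `A u` it is a partner, and its group is `X`. -/
theorem class_mem [Finite G] {u w x : G} (hu : u ∈ B) (hp : Partner B A u w) (he : e = 2) (hx : x ∈ B)
    (hxX : x ∈ blockX M E (A u)) :
    blockX M E (A x) = blockX M E (A u) ∧ Nat.card (A x) = Nat.card (A u) ∧ A x ≤ blockX M E (A u) ∧
      ∃ y, Partner B A x y ∧ y ∈ blockX M E (A u) := by
  by_cases hxu : x ∈ A u
  · have hA := (d.A_bad u hu x hxu (d.bad_not x hx)).2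
    exact ⟨by rw [hA], by rw [hA], by rw [hA]; exact d.A_le_X hu, w, ⟨hp.1, hA ▸ hp.2.1, hA ▸ hp.2.2⟩,
      d.partner_mem_X hu hp⟩
  · have hp' : Partner B A u x := ⟨hx, hxu, fun y hy => d.conj_A hu hxX hy⟩
    exact ⟨d.X_eq hu hp' he, d.card_A_eq hu hp' he, d.X_eq hu hp' he ▸ d.A_le_X hx, u, d.symm hu hp',
      d.A_le_X hu (d.mem_self u hu)⟩

theorem partner_iff [Finite G] {u x : G} (hu : u ∈ B) :
    Partner B A u x ↔ x ∈ B ∧ x ∈ blockX M E (A u) ∧ x ∉ A u :=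
  ⟨fun h => ⟨h.1, d.partner_mem_X hu h, h.2.1⟩, fun h => ⟨h.1, h.2.2, fun y hy => d.conj_A hu h.2.1 hy⟩⟩

theorem block_inj {x y : G} (hx : x ∈ B) (hy : y ∈ B) (h : y ∈ A x) : A y = A x :=
  (d.A_bad x hx y h (d.bad_not y hy)).2

/-- The bad involutions of `X` are the blocks' elements outside `E`. -/
theorem ncard_bad_X [Finite G] {u w : G} (hu : u ∈ B) (hp : Partner B A u w) (he : e = 2) :
    {x | x ∈ B ∧ x ∈ blockX M E (A u)}.ncard =
      (classBlocks B A (blockX M E (A u))).ncard * (Nat.card (A u) - 2 ^ r) := by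
  classical
  set X := blockX M E (A u)
  set S : Set G := {x | x ∈ B ∧ x ∈ X}
  have hS := S.toFinite
  have hc : (A '' S).ncard = (hS.toFinset.image A).card := by
    rw [← Set.ncard_coe_finset, Finset.coe_image, Set.Finite.coe_toFinset]
  rw [Set.ncard_eq_toFinset_card S hS, classBlocks, hc, Finset.card_eq_sum_card_image A hS.toFinset]
  refine (Finset.sum_eq_card_nsmul (b := Nat.card (A u) - 2 ^ r) fun T hT => ?_).trans (smul_eq_mul _ _)
  obtain ⟨x, hx, rfl⟩ := Finset.mem_image.1 hT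
  rw [Set.Finite.mem_toFinset] at hx
  obtain ⟨-, hc, hle, -⟩ := d.class_mem hu hp he hx.1 hx.2
  rw [← hc, ← d.card_E, ← Set.ncard_coe_finset]
  have hset : ((hS.toFinset.filter fun y => A y = A x : Finset G) : Set G) = (A x : Set G) \ E := by
    ext y
    simp only [Finset.coe_filter, Set.Finite.mem_toFinset, Set.mem_sdiff, SetLike.mem_coe]
    constructor
    · rintro ⟨hy, hAy⟩
      exact ⟨hAy ▸ d.mem_self y hy.1, d.bad_not y hy.1⟩
    · rintro ⟨hy, hyE⟩
      obtain ⟨hyB, hA⟩ := d.A_bad x hx.1 y hy hyE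
      exact ⟨⟨hyB, hle hy⟩, hA⟩
  rw [hset, Set.ncard_sdiff (show (E : Set G) ⊆ A x from d.E_le_A x hx.1), ← Nat.card_coe_set_eq,
    ← Nat.card_coe_set_eq]
  rfl

theorem two_group_A [Finite G] {u : G} (hu : u ∈ B) : ∃ a : ℕ, Nat.card (A u) = 2 ^ a := by
  haveI : Fact (Nat.Prime 2) := ⟨Nat.prime_two⟩
  exact IsPGroup.iff_card.1 (show IsPGroup 2 (A u) from fun x =>
    ⟨1, Subtype.ext (by simpa [pow_two] using d.A_sq u hu x x.2)⟩)

/-- An odd number of blocks. -/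
theorem odd_classBlocks [Finite G] {u w : G} (hu : u ∈ B) (hp : Partner B A u w) (he : e = 2)
    (hbig : 4 * 2 ^ r ≤ Nat.card (A u)) : Odd (classBlocks B A (blockX M E (A u))).ncard := by
  classical
  set X := blockX M E (A u) with hX
  set N := (classBlocks B A X).ncard with hN
  obtain ⟨a, ha⟩ := d.two_group_A hu
  have har : r + 2 ≤ a := (Nat.pow_le_pow_iff_right (le_refl 2)).1 (by rw [← ha, pow_add]; omega)
  have hcard : Nat.card X = 2 ^ (a + r + r) := by rw [d.card_X hu hp he, ha, pow_add, pow_add]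
  have hEX : E ≤ X := (d.E_le_A u hu).trans (d.A_le_X hu)
  have h1 := SquareCount.two_pow_dvd hEX d.card_E d.E_sq (fun z hz x hx => d.eset_comm hx.1 hz) hcard
    (by omega) (fun x hx => d.sq_mem_E hu hp he hx) (fun x hx y hy => d.comm_X hu hp he hx hy)
  have hset : {x | x ∈ X ∧ x * x = 1} = (E : Set G) ∪ {x | x ∈ B ∧ x ∈ X} := by
    ext x
    constructor
    · rintro ⟨hx, h2⟩
      by_cases hxE : x ∈ E
      · exact Or.inl hxE
      · refine Or.inr ⟨d.invol X (d.X_le u) (fun y hy => d.sq_mem_E hu hp he hy) ?_ x hx h2 hxE, hx⟩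
        rw [d.card_X hu hp he, he, two_mul, pow_add, ← mul_assoc]
        exact Nat.mul_le_mul_right _ (Nat.mul_le_mul_right _ hbig)
    · rintro (hx | hx)
      · exact ⟨hEX hx, d.E_sq x hx⟩
      · exact ⟨hx.2, d.bad_sq x hx.1⟩
  rw [hset, Set.ncard_union_eq (Set.disjoint_left.2 fun x hx hx' => d.bad_not x hx'.1 hx),
    d.ncard_bad_X hu hp he, ← hN, ← Nat.card_coe_set_eq, SetLike.coe_sort_coe, d.card_E, ha,
    show 2 ^ a - 2 ^ r = 2 ^ r * (2 ^ (a - r) - 1) by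
      rw [Nat.mul_sub, ← pow_add, mul_one, Nat.add_sub_cancel' (by omega)],
    show 2 ^ r + N * (2 ^ r * (2 ^ (a - r) - 1)) = 2 ^ r * (1 + N * (2 ^ (a - r) - 1)) by ring, pow_succ] at h1
  have h2 := (Nat.mul_dvd_mul_iff_left (Nat.two_pow_pos r)).1 h1
  rw [← Nat.not_even_iff_odd]
  rintro ⟨c, hc⟩
  rw [hc, add_mul] at h2
  omega

/-- The torus moves the other blocks freely. -/
theorem torus_free [Finite G] {u w x k : G} (hu : u ∈ B) (hp : Partner B A u x) (hk : k ∈ K u)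
    (h : k * x * k⁻¹ ∈ A x) : k = 1 := by
  by_contra hne
  exact hp.2.1 (d.K_free u hu k hk hne x hp.1 h fun y hy => d.block_act hu hp hy)

theorem K_normX {u k x : G} (hu : u ∈ B) (hk : k ∈ K u) (hx : x ∈ blockX M E (A u)) :
    k * x * k⁻¹ ∈ blockX M E (A u) :=
  d.conj_X hu (d.K_le u hu hk) (fun y => d.A_eq_conj hu (d.K_le u hu hk) (d.K_commute u hu k hk)) hx

/-- `q - 1` divides the number of the other blocks, so there are at least two orbits of them. -/
theorem two_orbits [Finite G] {u w : G} (hu : u ∈ B) (hp : Partner B A u w) (he : e = 2)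
    (hbig : 4 * 2 ^ r ≤ Nat.card (A u)) :
    2 ^ r - 1 ∣ (classBlocks B A (blockX M E (A u))).ncard - 1 ∧
      2 * (2 ^ r - 1) ≤ (classBlocks B A (blockX M E (A u))).ncard - 1 ∧
      A u ∈ classBlocks B A (blockX M E (A u)) := by
  classical
  set X := blockX M E (A u) with hX
  set Φ := classBlocks B A X with hΦ
  have hAu : A u ∈ Φ := ⟨u, ⟨hu, d.A_le_X hu (d.mem_self u hu)⟩, rfl⟩
  have hAw : A w ∈ Φ := ⟨w, ⟨hp.1, d.partner_mem_X hu hp⟩, rfl⟩
  set T := {S // S ∈ Φ ∧ S ≠ A u}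
  have hne' : ∀ {S}, S ∈ Φ → S ≠ A u → ∃ x, Partner B A u x ∧ A x = S := by
    rintro _ ⟨x, ⟨hx, hxX⟩, rfl⟩ hne
    exact ⟨x, (d.partner_iff hu).2 ⟨hx, hxX, fun h => hne (d.block_inj hu hx h)⟩, rfl⟩
  have hconjA : ∀ k ∈ K u, ∀ x, x ∈ B → (A x).map (MulAut.conj k).toMonoidHom = A (k * x * k⁻¹) := by
    intro k hk x hx
    ext y
    constructor
    · rintro ⟨z, hz, rfl⟩
      exact (d.A_conj k (d.K_le u hu hk) x hx z).1 hz
    · intro hy
      refine ⟨k⁻¹ * y * k, (d.A_conj k (d.K_le u hu hk) x hx _).2 ?_, ?_⟩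
      · rwa [show k * (k⁻¹ * y * k) * k⁻¹ = y by group]
      · show k * (k⁻¹ * y * k) * k⁻¹ = y
        group
  letI : MulAction (K u) T :=
    { smul := fun k S => ⟨S.1.map (MulAut.conj (k : G)).toMonoidHom, by
        obtain ⟨x, hx, hA⟩ := hne' S.2.1 S.2.2
        have hpk := d.partner_conj hu hx k.2
        rw [← hA, hconjA k k.2 x hx.1]
        exact ⟨⟨_, ⟨hpk.1, d.partner_mem_X hu hpk⟩, rfl⟩, fun e' => hpk.2.1 (e' ▸ d.mem_self _ hpk.1)⟩⟩
      one_smul := fun S => Subtype.ext (by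
        show S.1.map (MulAut.conj ((1 : K u) : G)).toMonoidHom = S.1
        rw [OneMemClass.coe_one, map_one]
        exact map_id S.1)
      mul_smul := fun k l S => Subtype.ext (by
        show S.1.map (MulAut.conj ((k * l : K u) : G)).toMonoidHom =
          (S.1.map (MulAut.conj (l : G)).toMonoidHom).map (MulAut.conj (k : G)).toMonoidHom
        rw [Subgroup.map_map, Subgroup.coe_mul, map_mul]
        rfl) }
  have hdvd : Nat.card (K u) ∣ Nat.card T := by
    haveI : Fintype (Quotient (MulAction.orbitRel (K u) T)) := Fintype.ofFinite _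
    rw [Nat.card_congr (MulAction.selfEquivSigmaOrbits (K u) T), Nat.card_sigma]
    refine Finset.dvd_sum fun ω _ => ?_
    have hfree : ∀ (k : K u) (S : T), k • S = S → k = 1 := fun k S h => by
      obtain ⟨x, hx, hA⟩ := hne' S.2.1 S.2.2
      refine Subtype.ext (d.torus_free (w := w) hu hx k.2 ?_)
      have h1 : S.1.map (MulAut.conj (k : G)).toMonoidHom = S.1 := congrArg Subtype.val h
      rw [← hA, hconjA k k.2 x hx.1] at h1
      rw [← h1]
      exact d.mem_self _ (d.partner_conj hu hx k.2).1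
    have hinj : Function.Injective fun k : K u => k • ω.out := fun a b h => by
      exact (inv_mul_eq_one.1 (hfree (b⁻¹ * a) ω.out (by rw [mul_smul]; exact inv_smul_eq_iff.2 h))).symm
    rw [show Nat.card (MulAction.orbit (K u) ω.out) = Nat.card (K u) from Nat.card_range_of_injective hinj]
  have hT : Nat.card T = Φ.ncard - 1 := by
    rw [← Set.ncard_sdiff_singleton_of_mem hAu, ← Nat.card_coe_set_eq]
    rfl
  rw [d.K_card u hu, hT] at hdvd
  refine ⟨hdvd, ?_, hAu⟩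
  obtain ⟨c, hc⟩ := hdvd
  obtain ⟨k, hk⟩ := d.odd_classBlocks hu hp he hbig
  have h2 : 2 ≤ Φ.ncard := by
    rw [← Set.ncard_pair (fun e' : A u = A w => hp.2.1 (e'.symm ▸ d.mem_self w hp.1))]
    exact Set.ncard_le_ncard (by rintro _ (rfl | rfl) <;> assumption)
  rcases c with _ | _ | c
  · omega
  · exfalso
    rw [hk] at hc
    have := d.q_ge
    obtain ⟨q', hq'⟩ : 2 ∣ 2 ^ r := dvd_pow_self 2 (by have := d.two_le; omega)
    omega
  · rw [hc, mul_comm 2]
    exact Nat.mul_le_mul_left _ (by omega)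

/-- The partners. -/
theorem ncard_partners [Finite G] {u w : G} (hu : u ∈ B) (hp : Partner B A u w) (he : e = 2) :
    {x | Partner B A u x}.ncard + (Nat.card (A u) - 2 ^ r) =
      (classBlocks B A (blockX M E (A u))).ncard * (Nat.card (A u) - 2 ^ r) := by
  classical
  rw [← d.ncard_bad_X hu hp he, ← d.card_E]
  have h : {x | x ∈ B ∧ x ∈ blockX M E (A u)} = {x | Partner B A u x} ∪ ((A u : Set G) \ E) := by
    ext x
    constructor
    · intro hx
      by_cases hxu : x ∈ A u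
      · exact Or.inr ⟨hxu, d.bad_not x hx.1⟩
      · exact Or.inl ((d.partner_iff hu).2 ⟨hx.1, hx.2, hxu⟩)
    · rintro (hx | ⟨hx, hxE⟩)
      · exact ⟨hx.1, d.partner_mem_X hu hx⟩
      · exact ⟨(d.A_bad u hu x hx hxE).1, d.A_le_X hu hx⟩
  rw [h, Set.ncard_union_eq (Set.disjoint_left.2 fun x hx hx' => hx.2.1 hx'.1),
    Set.ncard_sdiff (show (E : Set G) ⊆ A u from d.E_le_A u hu), ← Nat.card_coe_set_eq, ← Nat.card_coe_set_eq]
  rfl

/-- An element of `cenE M E` normalising the block lies in `X`. -/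
theorem mem_X_of_normalises [Finite G] {u w g : G} (hu : u ∈ B) (hp : Partner B A u w) (he : e = 2)
    (hbig : 4 * 2 ^ r ≤ Nat.card (A u)) (hg : g ∈ cenE M E) (hgA : ∀ x, x ∈ A u ↔ g * x * g⁻¹ ∈ A u) :
    g ∈ blockX M E (A u) := by
  by_contra hgX
  have h1 := d.card_partners_le hu (n := Nat.card (A u)) fun z _ _ => d.value_le_of_fpf hu hp he hg hgA hgX z
  have h2 := d.ncard_partners hu hp he
  have h3 := (d.two_orbits hu hp he hbig).2.1
  set N := (classBlocks B A (blockX M E (A u))).ncard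
  set D := Nat.card (A u) - 2 ^ r with hD
  have h4 : (N - 1) * D + D = N * D := by
    rw [← Nat.succ_mul, Nat.succ_eq_add_one, Nat.sub_add_cancel]
    have := d.q_ge
    omega
  have h5 : 2 * (2 ^ r - 1) * D ≤ Nat.card (A u) * (2 ^ r - 1) := by
    calc 2 * (2 ^ r - 1) * D ≤ (N - 1) * D := Nat.mul_le_mul_right _ h3
      _ ≤ {x | Partner B A u x}.ncard := Nat.le_of_add_le_add_right (h4.le.trans h2.ge)
      _ ≤ _ := h1
  have h6 := Nat.le_of_mul_le_mul_right (show 2 * D * (2 ^ r - 1) ≤ Nat.card (A u) * (2 ^ r - 1) by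
    rwa [mul_right_comm]) (by have := d.q_ge; omega)
  have := d.q_ge
  omega

/-- No element outside `X` has its square in `X`. -/
theorem mem_X_of_sq [Finite G] {u w g : G} (hu : u ∈ B) (hp : Partner B A u w) (he : e = 2)
    (hbig : 4 * 2 ^ r ≤ Nat.card (A u)) (hg : g ∈ M)
    (hgX : ∀ x, x ∈ blockX M E (A u) → g * x * g⁻¹ ∈ blockX M E (A u)) (hg2 : g * g ∈ blockX M E (A u)) :
    g ∈ blockX M E (A u) := by
  classical
  set X := blockX M E (A u) with hX
  set S : Set (Subgroup G) := classBlocks B A X with hS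
  -- a fixed block
  obtain ⟨x, hxB, hxX, hgx⟩ : ∃ x, x ∈ B ∧ x ∈ X ∧ g * x * g⁻¹ ∈ A x := by
    by_contra hno
    push Not at hno
    have hmap : ∀ x ∈ B, (A x).map (MulAut.conj g).toMonoidHom = A (g * x * g⁻¹) := fun x hx => by
      ext y
      constructor
      · rintro ⟨z, hz, rfl⟩
        exact (d.A_conj g hg x hx z).1 hz
      · intro hy
        refine ⟨g⁻¹ * y * g, (d.A_conj g hg x hx _).2 ?_, ?_⟩
        · rwa [show g * (g⁻¹ * y * g) * g⁻¹ = y by group]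
        · show g * (g⁻¹ * y * g) * g⁻¹ = y
          group
    refine Nat.not_even_iff_odd.2 (d.odd_classBlocks hu hp he hbig) ?_
    refine even_ncard_of_invol S.toFinite (fun T => T.map (MulAut.conj g).toMonoidHom) ?_ ?_ ?_
    · rintro _ ⟨x, ⟨hx, hxX⟩, rfl⟩
      exact ⟨_, ⟨d.conj g hg x hx, hgX x hxX⟩, (hmap x hx).symm⟩
    · rintro _ ⟨x, ⟨hx, hxX⟩, rfl⟩
      show ((A x).map (MulAut.conj g).toMonoidHom).map (MulAut.conj g).toMonoidHom = A x
      rw [hmap x hx, hmap _ (d.conj g hg x hx)]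
      obtain ⟨hXx, -, -, -⟩ := d.class_mem hu hp he hx hxX
      refine d.block_inj hx (d.conj g hg _ (d.conj g hg x hx)) ?_
      rw [show g * (g * x * g⁻¹) * g⁻¹ = g * g * x * (g * g)⁻¹ by group]
      exact d.conj_A hx (hXx ▸ hg2) (d.mem_self x hx)
    · rintro _ ⟨x, ⟨hx, hxX⟩, rfl⟩ h
      refine hno x hx hxX ?_
      rw [hmap x hx] at h
      exact h ▸ d.mem_self _ (d.conj g hg x hx)
  obtain ⟨hXx, hcx, -, y, hpy, -⟩ := d.class_mem hu hp he hxB hxX
  have hnorm : ∀ z, z ∈ A x ↔ g * z * g⁻¹ ∈ A x := fun z => by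
    have := d.A_conj g hg x hxB z
    rwa [d.block_inj hxB (d.conj g hg x hxB) hgx] at this
  -- a member of the block fixed modulo `E`
  obtain ⟨x1, hx1, hx1E, hgx1⟩ : ∃ x1 ∈ A x, x1 ∉ E ∧ g * x1 * g⁻¹ * x1⁻¹ ∈ E := by
    set x1 := g * x * g⁻¹ * x with hx1
    by_cases hx1E : x1 ∈ E
    · refine ⟨x, d.mem_self x hxB, d.bad_not x hxB, ?_⟩
      rw [d.bad_inv hxB]
      exact hx1E
    refine ⟨x1, mul_mem hgx (d.mem_self x hxB), hx1E, ?_⟩
    have h := (hXx.symm ▸ hg2 : g * g ∈ blockX M E (A x)).2 x (d.mem_self x hxB)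
    have hc := (d.A_commute hxB (d.mem_self x hxB) hgx).eq
    have e1 : g * x1 * g⁻¹ * x1⁻¹ = g * g * x * (g * g)⁻¹ * x⁻¹ := by
      rw [hx1, show g * (g * x * g⁻¹ * x) * g⁻¹ * (g * x * g⁻¹ * x)⁻¹ =
        g * g * x * (g * g)⁻¹ * (g * x * g⁻¹) * (x⁻¹ * (g * x * g⁻¹)⁻¹) by group,
        ← mul_inv_rev, ← hc, mul_inv_rev]
      group
    rwa [e1]
  obtain ⟨hx1B, hA1⟩ := d.A_bad x hxB x1 hx1 hx1E
  have hp1 : Partner B A x1 y := ⟨hpy.1, hA1 ▸ hpy.2.1, hA1 ▸ hpy.2.2⟩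
  obtain ⟨t, ht, htz, -⟩ := d.exists_value hx1B hp1 hgx1
  have htx : t * x1 * t⁻¹ = g * x1 * g⁻¹ := mul_right_cancel htz
  have htM : t ∈ M := cenE_le M E ht.1
  have hk1 : Commute (t⁻¹ * g) x1 := by
    show t⁻¹ * g * x1 = x1 * (t⁻¹ * g)
    calc t⁻¹ * g * x1 = t⁻¹ * (g * x1 * g⁻¹) * g := by group
      _ = t⁻¹ * (t * x1 * t⁻¹) * g := by rw [htx]
      _ = x1 * (t⁻¹ * g) := by group
  have htX : t ∈ X := by
    have h := ht
    rw [hA1, hXx] at h
    exact h
  have hk2 : t⁻¹ * g * (t⁻¹ * g) ∈ cenE M E := by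
    rw [show t⁻¹ * g * (t⁻¹ * g) = t⁻¹ * (g * t⁻¹ * g⁻¹) * (g * g) by group]
    exact mul_mem (mul_mem (inv_mem ht.1) (hgX _ (inv_mem htX)).1) hg2.1
  have hk := d.cen_of_commute hx1B (d.odd_r he) (M.mul_mem (M.inv_mem htM) hg) hk1 hk2
  have hk' : t⁻¹ * g ∈ X := by
    show t⁻¹ * g ∈ blockX M E (A u)
    rw [← hXx]
    refine d.mem_X_of_normalises hxB hpy he (hcx.symm ▸ hbig) hk fun z => ?_
    have := d.A_conj (t⁻¹ * g) (cenE_le M E hk) x1 hx1B z
    rw [hk1.eq, mul_inv_cancel_right, hA1] at this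
    exact this
  have := mul_mem htX hk'
  rwa [mul_inv_cancel_left] at this

/-- An element of `M` fixing all blocks lies in `X`. -/
theorem mem_X_of_blocks [Finite G] {u w g : G} (hu : u ∈ B) (hp : Partner B A u w) (he : e = 2)
    (hbig : 4 * 2 ^ r ≤ Nat.card (A u)) (hg : g ∈ M)
    (hfix : ∀ x, x ∈ B → x ∈ blockX M E (A u) → g * x * g⁻¹ ∈ A x) : g ∈ blockX M E (A u) := by
  classical
  set X := blockX M E (A u) with hX
  have hblk : ∀ x, x ∈ B → x ∈ X → ∀ l, l ∈ M → l * x * l⁻¹ ∈ A x → ∀ z ∈ A x, l * z * l⁻¹ ∈ A x :=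
    fun x hx hxX l hl h z hz => by
      have := (d.A_conj l hl x hx z).1 hz
      rwa [d.block_inj hx (d.conj l hl x hx) h] at this
  have hgX : ∀ x ∈ X, g * x * g⁻¹ ∈ X := fun x hx => d.conj_X hu hg (fun z => by
    have := d.A_conj g hg u hu z
    rwa [d.block_inj hu (d.conj g hg u hu) (hfix u hu (d.A_le_X hu (d.mem_self u hu)))] at this) hx
  have hXfix : ∀ l ∈ X, ∀ x, x ∈ B → x ∈ X → l * x * l⁻¹ ∈ A x := fun l hl x hx hxX => by
    obtain ⟨hXx, -, -, -⟩ := d.class_mem hu hp he hx hxX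
    exact d.conj_A hx (hXx ▸ hl) (d.mem_self x hx)
  -- torus elements fixing all blocks
  have hKfix : ∀ k ∈ K u, (∀ x, x ∈ B → x ∈ X → k * x * k⁻¹ ∈ A x) → k = 1 := fun k hk h =>
    d.torus_free (w := w) hu hp hk (h w hp.1 (d.partner_mem_X hu hp))
  obtain ⟨z0, hz0, hz01⟩ : ∃ z0 ∈ E, z0 ≠ 1 :=
    ⟨_, d.act hu hp (d.mem_self u hu), d.value_ne hu hp⟩
  -- an element fixing all blocks and acting as a torus element on `E`
  have hend : ∀ l, l ∈ M → (∀ x, x ∈ B → x ∈ X → l * x * l⁻¹ ∈ A x) →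
      (∀ k ∈ K u, ∀ z ∈ E, l * (k * z * k⁻¹) * l⁻¹ = k * (l * z * l⁻¹) * k⁻¹) → l ∈ X := by
    intro l hl hlfix hlc
    obtain ⟨k0, hk0, hk0z⟩ := d.K_trans u hu z0 hz0 (l * z0 * l⁻¹) (d.E_conj l hl z0 hz0) hz01 (fun e1 => hz01 (by
      rw [mul_inv_eq_one] at e1
      exact mul_left_cancel (a := l) (e1.trans (mul_one _).symm)))
    have hagree : ∀ z ∈ E, l * z * l⁻¹ = k0 * z * k0⁻¹ := by
      intro z hz
      by_cases hz1 : z = 1
      · simp [hz1]
      obtain ⟨k, hk, rfl⟩ := d.K_trans u hu z0 hz0 z hz hz01 hz1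
      rw [hlc k hk z0 hz0, ← hk0z,
        show k * (k0 * z0 * k0⁻¹) * k⁻¹ = (k * k0) * z0 * (k * k0)⁻¹ by group, (d.K_comm u hu k hk k0 hk0).eq]
      group
    have hl0 : k0⁻¹ * l ∈ cenE M E := mem_cenE.2 ⟨M.mul_mem (M.inv_mem (d.K_le u hu hk0)) hl, fun z hz => by
      show z * (k0⁻¹ * l) = k0⁻¹ * l * z
      calc z * (k0⁻¹ * l) = k0⁻¹ * (k0 * z * k0⁻¹) * l := by group
        _ = k0⁻¹ * (l * z * l⁻¹) * l := by rw [hagree z hz]
        _ = k0⁻¹ * l * z := by group⟩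
    have h1 : k0⁻¹ * l ∈ X := by
      refine d.mem_X_of_normalises hu hp he hbig hl0 fun z => ?_
      have h2 := d.A_conj (k0⁻¹ * l) (cenE_le M E hl0) u hu z
      have h3 : k0⁻¹ * l * u * (k0⁻¹ * l)⁻¹ ∈ A u := by
        rw [show k0⁻¹ * l * u * (k0⁻¹ * l)⁻¹ = k0⁻¹ * (l * u * l⁻¹) * k0⁻¹⁻¹ by group]
        exact (d.A_eq_conj hu (M.inv_mem (d.K_le u hu hk0)) (d.K_commute u hu _ ((K u).inv_mem hk0))).1
          (hlfix u hu (d.A_le_X hu (d.mem_self u hu)))
      rwa [d.block_inj hu (d.conj _ (cenE_le M E hl0) u hu) h3] at h2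
    have h4 : k0 = 1 := hKfix k0 hk0 fun x hx hxX => by
      have h5 := hblk x hx hxX l hl (hlfix x hx hxX) _
        (hXfix _ (X.inv_mem h1) x hx hxX)
      rwa [show l * ((k0⁻¹ * l)⁻¹ * x * (k0⁻¹ * l)⁻¹⁻¹) * l⁻¹ = k0 * x * k0⁻¹ by group] at h5
    rwa [h4, inv_one, one_mul] at h1
  -- an element fixing all blocks and trivial on the block modulo `E`
  have hstep : ∀ c, c ∈ M → (∀ x, x ∈ B → x ∈ X → c * x * c⁻¹ ∈ A x) → c * u * c⁻¹ * u⁻¹ ∈ E → c ∈ X := by
    intro c hc hcfix hcu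
    obtain ⟨t, ht, htz, -⟩ := d.exists_value hu hp hcu
    have htx : t * u * t⁻¹ = c * u * c⁻¹ := mul_right_cancel htz
    set l := t⁻¹ * c with hldef
    have hlu : Commute l u := by
      show t⁻¹ * c * u = u * (t⁻¹ * c)
      calc t⁻¹ * c * u = t⁻¹ * (c * u * c⁻¹) * c := by group
        _ = t⁻¹ * (t * u * t⁻¹) * c := by rw [htx]
        _ = u * (t⁻¹ * c) := by group
    have hlM : l ∈ M := M.mul_mem (M.inv_mem (cenE_le M E ht.1)) hc
    have hlfix : ∀ x, x ∈ B → x ∈ X → l * x * l⁻¹ ∈ A x := fun x hx hxX => by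
      have h5 := hblk x hx hxX t⁻¹ (M.inv_mem (cenE_le M E ht.1))
        (hXfix _ (X.inv_mem ht) x hx hxX) _ (hcfix x hx hxX)
      rwa [show t⁻¹ * (c * x * c⁻¹) * t⁻¹⁻¹ = l * x * l⁻¹ by rw [hldef]; group] at h5
    have hlX : l ∈ X := by
      refine hend l hlM hlfix fun k hk z hz => ?_
      obtain ⟨k', hk', hkE⟩ := d.K_norm u hu l hlM hlu k hk
      have hm : k'⁻¹ * (l * k * l⁻¹) ∈ blockC M E u := by
        have hkM := M.mul_mem (M.mul_mem hlM (d.K_le u hu hk)) (M.inv_mem hlM)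
        refine mem_blockC.2 ⟨mem_cenE.2 ⟨M.mul_mem (M.inv_mem (d.K_le u hu hk')) hkM, fun y hy => ?_⟩, ?_⟩
        · show y * (k'⁻¹ * (l * k * l⁻¹)) = k'⁻¹ * (l * k * l⁻¹) * y
          calc y * (k'⁻¹ * (l * k * l⁻¹)) = k'⁻¹ * (k' * y * k'⁻¹) * (l * k * l⁻¹) := by group
            _ = k'⁻¹ * (l * k * l⁻¹ * y * (l * k * l⁻¹)⁻¹) * (l * k * l⁻¹) := by rw [← hkE y hy]
            _ = _ := by group
        · exact (d.K_commute u hu k' hk').inv_left.mul_left
            ((hlu.mul_left (d.K_commute u hu k hk)).mul_left hlu.inv_left)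
      have hmX := d.blockC_le hu hm
      have hkk : k⁻¹ * k' = 1 := d.torus_free (w := w) hu hp (mul_mem (inv_mem hk) hk') (by
        have hkM' := d.K_le u hu hk
        have hwX := d.partner_mem_X hu hp
        -- the conjugate of `k` and `k` agree on the blocks
        set x' := k' * w * k'⁻¹ with hx'
        have hpx' := d.partner_conj hu hp hk'
        have h6 := (d.A_conj k' (d.K_le u hu hk') w hp.1 _).1
          (hXfix (k'⁻¹ * (l * k * l⁻¹))⁻¹ (X.inv_mem hmX) w hp.1 hwX)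
        rw [show k' * ((k'⁻¹ * (l * k * l⁻¹))⁻¹ * w * (k'⁻¹ * (l * k * l⁻¹))⁻¹⁻¹) * k'⁻¹ =
          k' * (l * k * l⁻¹)⁻¹ * k' * w * k'⁻¹ * (l * k * l⁻¹) * k'⁻¹ by group] at h6
        have h7 : l⁻¹ * w * l ∈ A w := by
          have hmem : l⁻¹ * w * l ∈ B ∧ l⁻¹ * w * l ∈ X := ⟨by
            simpa using d.conj l⁻¹ (M.inv_mem hlM) w hp.1, by
            have := d.conj_X hu (M.inv_mem hlM) (fun z => d.A_eq_conj hu (M.inv_mem hlM) hlu.inv_left) hwX
            rwa [inv_inv] at this⟩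
          have h8 := hlfix _ hmem.1 hmem.2
          rw [show l * (l⁻¹ * w * l) * l⁻¹ = w by group] at h8
          rw [d.block_inj hmem.1 hp.1 h8]
          exact d.mem_self _ hmem.1
        have h9 : l * k * (l⁻¹ * w * l) * k⁻¹ * l⁻¹ ∈ A (k * w * k⁻¹) := by
          have h10 := (d.A_conj k hkM' w hp.1 _).1 h7
          have hpk := d.partner_conj hu hp hk
          have h11 := hblk _ hpk.1 (d.partner_mem_X hu hpk) l hlM (hlfix _ hpk.1 (d.partner_mem_X hu hpk)) _ h10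
          rwa [show l * (k * (l⁻¹ * w * l) * k⁻¹) * l⁻¹ = l * k * (l⁻¹ * w * l) * k⁻¹ * l⁻¹ by group] at h11
        have h12 : l * k * (l⁻¹ * w * l) * k⁻¹ * l⁻¹ ∈ A x' := by
          have h13 := (d.A_conj k' (d.K_le u hu hk') w hp.1 _).1 (hXfix _ hmX w hp.1 hwX)
          rwa [show k' * (k'⁻¹ * (l * k * l⁻¹) * w * (k'⁻¹ * (l * k * l⁻¹))⁻¹) * k'⁻¹ =
            l * k * (l⁻¹ * w * l) * k⁻¹ * l⁻¹ by group] at h13
        have hy1 : l * k * (l⁻¹ * w * l) * k⁻¹ * l⁻¹ ∈ B := by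
          rw [show l * k * (l⁻¹ * w * l) * k⁻¹ * l⁻¹ = (l * k * l⁻¹) * w * (l * k * l⁻¹)⁻¹ by group]
          exact d.conj _ (M.mul_mem (M.mul_mem hlM hkM') (M.inv_mem hlM)) w hp.1
        have h14 : x' ∈ A (k * w * k⁻¹) := by
          rw [← d.block_inj (d.conj k hkM' w hp.1) hy1 h9, d.block_inj hpx'.1 hy1 h12]
          exact d.mem_self _ hpx'.1
        have h15 : k⁻¹ * k' * w * (k⁻¹ * k')⁻¹ ∈ A w := by
          refine (d.A_conj k hkM' w hp.1 _).2 ?_
          rwa [show k * (k⁻¹ * k' * w * (k⁻¹ * k')⁻¹) * k⁻¹ = k' * w * k'⁻¹ by group]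
        exact h15)
      rw [inv_mul_eq_one] at hkk
      subst hkk
      rw [← hkE _ (d.E_conj l hlM z hz)]
      group
    have := mul_mem ht hlX
    rwa [hldef, mul_inv_cancel_left] at this
  refine hend g hg hfix fun k hk z hz => ?_
  have hkM := d.K_le u hu hk
  have hc : g * k * g⁻¹ * k⁻¹ ∈ X := by
    refine hstep _ (M.mul_mem (M.mul_mem (M.mul_mem hg hkM) (M.inv_mem hg)) (M.inv_mem hkM)) (fun x hx hxX => ?_) ?_
    · -- the blocks
      set y := k⁻¹ * x * k with hy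
      have hyB : y ∈ B := by simpa [hy] using d.conj k⁻¹ (M.inv_mem hkM) x hx
      have hyX : y ∈ X := by
        have := d.K_normX hu ((K u).inv_mem hk) hxX
        rwa [inv_inv] at this
      have hy' : g⁻¹ * y * g ∈ A y := by
        have hB : g⁻¹ * y * g ∈ B := by simpa using d.conj g⁻¹ (M.inv_mem hg) y hyB
        have hX' : g⁻¹ * y * g ∈ X := by
          have := d.conj_X hu (M.inv_mem hg) (fun z => by
            have h2 := d.A_conj g hg u hu (g⁻¹ * z * g)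
            rw [d.block_inj hu (d.conj g hg u hu) (hfix u hu (d.A_le_X hu (d.mem_self u hu))),
              show g * (g⁻¹ * z * g) * g⁻¹ = z by group] at h2
            rw [inv_inv]
            exact h2.symm) hyX
          rwa [inv_inv] at this
        have h8 := hfix _ hB hX'
        rw [show g * (g⁻¹ * y * g) * g⁻¹ = y by group] at h8
        rw [d.block_inj hB hyB h8]
        exact d.mem_self _ hB
      have h10 := (d.A_conj k hkM y hyB _).1 hy'
      rw [show k * y * k⁻¹ = x by rw [hy]; group] at h10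
      have := hblk x hx hxX g hg (hfix x hx hxX) _ h10
      rwa [show g * (k * (g⁻¹ * y * g) * k⁻¹) * g⁻¹ = g * k * g⁻¹ * k⁻¹ * x * (g * k * g⁻¹ * k⁻¹)⁻¹ by
        rw [hy]; group] at this
    · set a := g⁻¹ * u * g with ha
      have haA : a ∈ A u := by
        have h2 := d.A_conj g hg u hu a
        rw [d.block_inj hu (d.conj g hg u hu) (hfix u hu (d.A_le_X hu (d.mem_self u hu))),
          show g * a * g⁻¹ = u by rw [ha]; group] at h2
        exact h2.2 (d.mem_self u hu)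
      have h := d.E_conj g hg _ (d.K_A u hu k hk a haA)
      have hku : k⁻¹ * u * k = u := by rw [mul_assoc, ← (d.K_commute u hu k hk).eq, inv_mul_cancel_left]
      rwa [show g * k * g⁻¹ * k⁻¹ * u * (g * k * g⁻¹ * k⁻¹)⁻¹ * u⁻¹ =
        g * (k * (g⁻¹ * (k⁻¹ * u * k) * g) * k⁻¹ * (g⁻¹ * u * g)⁻¹) * g⁻¹ by group, hku]
  have h := d.conj_eset hc.1 (d.E_conj k hkM _ (d.E_conj g hg z hz))
  calc g * (k * z * k⁻¹) * g⁻¹ = (g * k * g⁻¹ * k⁻¹) * (k * (g * z * g⁻¹) * k⁻¹) * (g * k * g⁻¹ * k⁻¹)⁻¹ := by group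
    _ = _ := h

end BlockData

end Cfsg.Agent.GoodInvol
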