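import Cfsg.Agent.Lib.GoodInvol.Partner.Sz

/-!
# Partners: an element of `C_M(E)` normalising a block

For `e = 2` such an element outside `X` has no fixed elements on the block modulo `E` and splits `X / E`; then a value
has at most `|A u|` partners. With two torus orbits of partner blocks this is too few, so the element lies in `X`.
-/

set_option autoImplicit false
set_option linter.style.haveILetI false
set_option linter.unusedSectionVars false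
set_option linter.unusedVariables false

namespace Cfsg.Agent.GoodInvol

open Subgroup

universe u

variable {G : Type u} [Group G] [Finite G] {M E : Subgroup G} {B : Set G} {A Q K : G → Subgroup G} {r e : ℕ}

namespace BlockData

variable (d : BlockData M E B A Q K r e)
include d

omit [Finite G] in
/-- An element normalising the block and commuting with `E` normalises `X`. -/
theorem conj_X {u g s : G} (hu : u ∈ B) (hg : g ∈ M) (hgA : ∀ x, x ∈ A u ↔ g * x * g⁻¹ ∈ A u)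
    (hs : s ∈ blockX M E (A u)) : g * s * g⁻¹ ∈ blockX M E (A u) := by
  refine ⟨d.conj_cenE hg hs.1, fun x hx => ?_⟩
  have hy : g⁻¹ * x * g ∈ A u := (hgA _).2 (by rwa [show g * (g⁻¹ * x * g) * g⁻¹ = x by group])
  have h := d.E_conj g hg _ (hs.2 _ hy)
  rwa [show g * (s * (g⁻¹ * x * g) * s⁻¹ * (g⁻¹ * x * g)⁻¹) * g⁻¹ = g * s * g⁻¹ * x * (g * s * g⁻¹)⁻¹ * x⁻¹ by group]
    at h

/-- An element outside `X` normalising the block: few partners with one value. -/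
theorem value_le_of_fpf {u w g : G} (hu : u ∈ B) (hp : Partner B A u w) (he : e = 2) (hg : g ∈ cenE M E)
    (hgA : ∀ x, x ∈ A u ↔ g * x * g⁻¹ ∈ A u) (hgX : g ∉ blockX M E (A u)) (z : G) :
    {w' | Partner B A u w' ∧ w' * u * w'⁻¹ * u⁻¹ = z}.ncard ≤ Nat.card (A u) := by
  classical
  set X := blockX M E (A u) with hX
  have hgA' : ∀ x ∈ A u, g⁻¹ * x * g ∈ A u := fun x hx => (hgA _).2 (by
    rwa [show g * (g⁻¹ * x * g) * g⁻¹ = x by group])
  have hfree : ∀ x ∈ A u, g * x * g⁻¹ * x⁻¹ ∈ E → x ∈ E := fun x hx h => by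
    by_contra hxE
    exact hgX (d.mem_X_of_fix hu hp hg hx hxE h)
  have hEX : E ≤ X := (d.E_le_A u hu).trans (d.A_le_X hu)
  set EX := E.subgroupOf X with hEXdef
  haveI : EX.Normal := ⟨fun z hz s => by
    rw [mem_subgroupOf] at hz ⊢
    show (s : G) * z * (s : G)⁻¹ ∈ E
    rw [d.conj_eset s.2.1 hz]
    exact hz⟩
  let π := QuotientGroup.mk' EX
  have hπ : ∀ {s t : X}, π s = π t ↔ (s : G)⁻¹ * t ∈ E := fun {s t} => by
    rw [QuotientGroup.mk'_apply, QuotientGroup.mk'_apply, QuotientGroup.eq, mem_subgroupOf]; rfl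
  let δ : X → X := fun s => ⟨g * s * g⁻¹ * (s : G)⁻¹, X.mul_mem (d.conj_X hu (cenE_le M E hg) hgA s.2) (X.inv_mem s.2)⟩
  let φ : X →* X ⧸ EX :=
    { toFun := fun s => π (δ s)
      map_one' := by
        rw [show δ 1 = 1 from Subtype.ext (by simp [δ]), map_one]
      map_mul' := fun s t => by
        rw [← map_mul]
        refine hπ.2 ?_
        have h1 := E.inv_mem (d.comm_X hu hp he s.2 (δ t).2)
        have h2 := d.conj_eset (inv_mem (δ t).2.1) h1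
        show (g * ((s : G) * t) * g⁻¹ * ((s : G) * t)⁻¹)⁻¹ * ((g * s * g⁻¹ * (s : G)⁻¹) * (g * t * g⁻¹ * (t : G)⁻¹)) ∈ E
        rw [show (g * ((s : G) * t) * g⁻¹ * ((s : G) * t)⁻¹)⁻¹ * ((g * s * g⁻¹ * (s : G)⁻¹) * (g * t * g⁻¹ * (t : G)⁻¹)) =
          (g * t * g⁻¹ * (t : G)⁻¹)⁻¹ * ((s : G) * (g * t * g⁻¹ * (t : G)⁻¹) * (s : G)⁻¹ *
            (g * t * g⁻¹ * (t : G)⁻¹)⁻¹)⁻¹ * (g * t * g⁻¹ * (t : G)⁻¹)⁻¹⁻¹ by group]
        rw [h2]
        exact h1 }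
  have hker : EX ≤ φ.ker := fun s hs => by
    rw [mem_subgroupOf] at hs
    rw [MonoidHom.mem_ker]
    show π (δ s) = 1
    rw [show δ s = 1 from Subtype.ext (show g * s * g⁻¹ * (s : G)⁻¹ = 1 by rw [d.conj_eset hg hs, mul_inv_cancel]),
      map_one]
  let Δ : X ⧸ EX →* X ⧸ EX := QuotientGroup.lift EX φ hker
  have hΔ : ∀ s : X, Δ (π s) = π (δ s) := fun s => rfl
  -- in the centraliser of `u`
  have hC : ∀ s : X, (δ s : G) ∈ blockC M E u → (s : G) ∈ blockC M E u := by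
    intro s hs
    set x := g * u * g⁻¹ * u⁻¹ with hxdef
    have hxA : x ∈ A u := mul_mem ((hgA u).1 (d.mem_self u hu)) (inv_mem (d.mem_self u hu))
    have hxE : x ∉ E := fun h => d.bad_not u hu (hfree u (d.mem_self u hu) h)
    have hc := d.blockC_commute hu hs hxA
    set z' := (s : G) * u * (s : G)⁻¹ * u⁻¹ with hz'
    have hz'E : z' ∈ E := s.2.2 u (d.mem_self u hu)
    have hgu : g * u * g⁻¹ = x * u := by rw [hxdef, inv_mul_cancel_right]
    have hgs : g * (s : G) * g⁻¹ = (δ s : G) * s := by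
      show g * (s : G) * g⁻¹ = g * s * g⁻¹ * (s : G)⁻¹ * s
      group
    have h1 : g * z' * g⁻¹ = z' := d.conj_eset hg hz'E
    have hxu : x * u ∈ A u := mul_mem hxA (d.mem_self u hu)
    have h2 : g * (s : G) * g⁻¹ * (x * u) * (g * (s : G) * g⁻¹)⁻¹ * (x * u)⁻¹ = z' := by
      rw [← hgu, ← h1, hz']; group
    rw [hgs, d.val_mul (d.blockC_le hu hs) s.2 hxu,
      show (δ s : G) * (x * u) * (δ s : G)⁻¹ * (x * u)⁻¹ = 1 by
        rw [(d.blockC_commute hu hs hxu).eq, mul_inv_cancel_right, mul_inv_cancel], mul_one] at h2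
    have h3 : (s : G) * x * (s : G)⁻¹ * x⁻¹ = 1 := by
      have h4 := s.2.2 x hxA
      rw [show (s : G) * (x * u) * (s : G)⁻¹ * (x * u)⁻¹ =
        (s : G) * x * (s : G)⁻¹ * x⁻¹ * (x * z' * x⁻¹) by rw [hz']; group,
        d.conj_eset (d.A_le u hu hxA) hz'E] at h2
      exact mul_eq_right.1 h2
    rw [← d.blockC_eq hu hxA hxE]
    exact mem_blockC.2 ⟨s.2.1, mul_inv_eq_iff_eq_mul.1 (mul_inv_eq_one.1 h3)⟩
  have hcapA : ∀ s : X, (δ s : G) ∈ E → (s : G) ∈ A u → (s : G) ∈ E := fun s h1 h2 => hfree _ h2 h1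
  have hKC : ∀ s : X, (δ s : G) ∈ E → (s : G) ∈ blockC M E u := fun s h =>
    hC s (d.A_le_blockC hu (d.E_le_A u hu h))
  -- `X / E` is the sum of the kernel and the image
  have hinf : ∀ v : X ⧸ EX, Δ v = 1 → v ∈ Δ.range → v = 1 := by
    rintro v hv ⟨v', rfl⟩
    obtain ⟨s, rfl⟩ := QuotientGroup.mk'_surjective EX v'
    rw [hΔ, hΔ, ← map_one π, hπ] at hv
    rw [hΔ, ← map_one π, hπ]
    have hE' : (δ (δ s) : G) ∈ E := by
      have := E.inv_mem hv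
      simpa using this
    have h5 : (δ s : G) ∈ blockC M E u := hKC (δ s) hE'
    have h6 : (s : G) ∈ blockC M E u := hC s h5
    have h7 := d.comm_blockC hu he hg hgA' h6
    have h8 : (δ s : G) ∈ A u := by
      show g * s * g⁻¹ * (s : G)⁻¹ ∈ A u
      have h9 := (d.blockC_commute hu h6 h7).eq
      rw [mul_inv_cancel_left] at h9
      rw [h9, mul_assoc, mul_inv_cancel, mul_one]
      exact h7
    simpa using E.inv_mem (hcapA (δ s) hE' h8)
  have hsur : ∀ v : X ⧸ EX, ∃ a b : X ⧸ EX, Δ a = 1 ∧ b ∈ Δ.range ∧ v = a * b := by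
    let f : Δ.ker × Δ.range → X ⧸ EX := fun p => (p.1 : X ⧸ EX) * p.2
    have hf : Function.Surjective f := by
      refine ((Nat.bijective_iff_injective_and_card f).2 ⟨?_, ?_⟩).2
      · rintro ⟨a, b⟩ ⟨a', b'⟩ h
        have h1 : ((a' : X ⧸ EX))⁻¹ * a = (b' : X ⧸ EX) * (b : X ⧸ EX)⁻¹ := by
          calc ((a' : X ⧸ EX))⁻¹ * a = (a' : X ⧸ EX)⁻¹ * ((a : X ⧸ EX) * b) * (b : X ⧸ EX)⁻¹ := by group
            _ = _ := by rw [show (a : X ⧸ EX) * b = (a' : X ⧸ EX) * b' from h]; group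
        have h2 := hinf _ (show Δ ((a' : X ⧸ EX)⁻¹ * a) = 1 from MonoidHom.mem_ker.1
          (Δ.ker.mul_mem (Δ.ker.inv_mem a'.2) a.2)) (h1 ▸ Δ.range.mul_mem b'.2 (Δ.range.inv_mem b.2))
        have e1 : a' = a := Subtype.ext (inv_mul_eq_one.1 h2)
        have e2 : b' = b := Subtype.ext (mul_inv_eq_one.1 (h1 ▸ h2))
        rw [e1, e2]
      · rw [Nat.card_prod, ← Δ.ker.card_mul_index, Subgroup.index_ker]
    intro v
    obtain ⟨⟨a, b⟩, h⟩ := hf v
    exact ⟨a, b, a.2, b.2, h.symm⟩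
  -- the parts of a partner
  choose fa fb hfa hfb hfab using hsur
  choose la hla using QuotientGroup.mk'_surjective EX
  let tp : X → G := fun s => (la (fa (π s)) : G)⁻¹ * s
  have htp : ∀ s : X, (δ (la (fa (π s))) : G) ∈ E ∧ ∃ b : X, tp s = b ∧ ∃ c : X, (δ c : G)⁻¹ * tp s ∈ E := by
    intro s
    refine ⟨?_, ⟨(la (fa (π s)))⁻¹ * s, rfl, ?_⟩⟩
    · have h := hfa (π s)
      rw [← hla (fa (π s)), hΔ, ← map_one π, hπ] at h
      simpa using E.inv_mem h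
    · obtain ⟨v', hv'⟩ := hfb (π s)
      obtain ⟨c, rfl⟩ := QuotientGroup.mk'_surjective EX v'
      refine ⟨c, (hπ (s := δ c) (t := (la (fa (π s)))⁻¹ * s)).1 ?_⟩
      show π (δ c) = π ((la (fa (π s)))⁻¹ * s)
      rw [map_mul, map_inv, hla, ← hΔ, hv']
      exact eq_inv_mul_of_mul_eq (hfab (π s)).symm
  have hcomm : ∀ v c : X, (δ v : G) ∈ E → (v : G) * (δ c : G) * (v : G)⁻¹ * (δ c : G)⁻¹ = 1 := by
    intro v c hv
    set z1 := (v : G) * c * (v : G)⁻¹ * (c : G)⁻¹ with hz1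
    have hz1E : z1 ∈ E := d.comm_X hu hp he v.2 c.2
    set z0 := g * (v : G) * g⁻¹ * (v : G)⁻¹ with hz0
    have hgcX := d.conj_X hu (cenE_le M E hg) hgA c.2
    have h2 : (v : G) * (g * c * g⁻¹) * (v : G)⁻¹ * (g * c * g⁻¹)⁻¹ = z1 := by
      have hgv : g * (v : G) * g⁻¹ = z0 * v := by rw [hz0, inv_mul_cancel_right]
      set y := g * (c : G) * g⁻¹ with hy
      have h5 : (v : G) * y * (v : G)⁻¹ * y⁻¹ ∈ E := d.comm_X hu hp he v.2 hgcX
      calc (v : G) * y * (v : G)⁻¹ * y⁻¹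
          = z0 * ((v : G) * y * (v : G)⁻¹ * y⁻¹) * z0⁻¹ := (d.conj_eset ((d.E_le_A u hu).trans (d.A_le u hu) hv) h5).symm
        _ = z0 * v * y * (v : G)⁻¹ * (y⁻¹ * z0⁻¹) := by group
        _ = z0 * v * y * (v : G)⁻¹ * (z0⁻¹ * y⁻¹) := by rw [(d.eset_comm hgcX.1 hv).inv_inv.eq]
        _ = (g * (v : G) * g⁻¹) * y * (g * (v : G) * g⁻¹)⁻¹ * y⁻¹ := by rw [hgv]; group
        _ = g * z1 * g⁻¹ := by rw [hy, hz1]; group
        _ = z1 := d.conj_eset hg hz1E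
    show (v : G) * (g * c * g⁻¹ * (c : G)⁻¹) * (v : G)⁻¹ * (g * c * g⁻¹ * (c : G)⁻¹)⁻¹ = 1
    rw [show (v : G) * (g * c * g⁻¹ * (c : G)⁻¹) * (v : G)⁻¹ * (g * c * g⁻¹ * (c : G)⁻¹)⁻¹ =
      (v : G) * (g * c * g⁻¹) * (v : G)⁻¹ * (g * c * g⁻¹)⁻¹ *
        (g * c * g⁻¹ * ((c : G)⁻¹ * z1⁻¹ * c) * (g * c * g⁻¹)⁻¹) by rw [hz1]; group,
      h2, show (c : G)⁻¹ * z1⁻¹ * c = z1⁻¹ by
        rw [mul_assoc, (d.eset_comm c.2.1 (E.inv_mem hz1E)).eq, inv_mul_cancel_left],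
      d.conj_eset hgcX.1 (E.inv_mem hz1E), mul_inv_cancel]
  set Sz := {w' | Partner B A u w' ∧ w' * u * w'⁻¹ * u⁻¹ = z} with hSz
  rcases Sz.eq_empty_or_nonempty with h0 | ⟨w1, hp1, hz1⟩
  · simp [h0]
  let T : G → G := fun w' => if h : w' ∈ X then tp ⟨w', h⟩ else 1
  have hT : ∀ w' ∈ Sz, ∃ v c : X, (δ v : G) ∈ E ∧ T w' = (v : G)⁻¹ * w' ∧ (δ c : G)⁻¹ * T w' ∈ E ∧
      (v : G) ∈ blockC M E u ∧ ∀ hX' : w' ∈ X, v = la (fa (π ⟨w', hX'⟩)) := by
    intro w' hw'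
    have hX' := d.partner_mem_X hu hw'.1
    obtain ⟨h1, b, -, c, hc⟩ := htp ⟨w', hX'⟩
    refine ⟨_, c, h1, dif_pos hX', ?_, hKC _ h1, fun _ => rfl⟩
    rw [show T w' = tp ⟨w', hX'⟩ from dif_pos hX']
    exact hc
  obtain ⟨v1, c1, hv1, hT1, hc1, hv1C, -⟩ := hT w1 ⟨hp1, hz1⟩
  rw [← SetLike.coe_sort_coe, Nat.card_coe_set_eq]
  refine Set.ncard_le_ncard_of_injOn (fun w' => (T w1)⁻¹ * T w') (fun w' hw' => ?_) (fun w2 hw2 w3 hw3 h => ?_)
    (Set.toFinite _)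
  · obtain ⟨v2, c2, hv2, hT2, hc2, hv2C, -⟩ := hT w' hw'
    have h1 : (T w1)⁻¹ * T w' ∈ blockC M E u := by
      rw [hT1, hT2, show ((v1 : G)⁻¹ * w1)⁻¹ * ((v2 : G)⁻¹ * w') =
        w1⁻¹ * ((v1 : G) * (v2 : G)⁻¹) * w1 * (w1⁻¹ * w') by group]
      refine mul_mem ?_ (d.inv_mul_mem_blockC (d.partner_mem_X hu hp1) (d.partner_mem_X hu hw'.1)
        (mul_right_cancel (hz1.trans hw'.2.symm)))
      have := d.conj_blockC hu (inv_mem (d.bad_le w1 hp1.1)) (g := w1⁻¹)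
        (fun x hx => by rw [inv_inv]; exact hp1.2.2 x hx) (mul_mem hv1C (inv_mem hv2C))
      rwa [inv_inv] at this
    have hm : ((δ (c1⁻¹ * c2) : G))⁻¹ * ((T w1)⁻¹ * T w') ∈ E := by
      have hc : π (δ (c1⁻¹ * c2)) = (π (δ c1))⁻¹ * π (δ c2) := by
        rw [← hΔ, ← hΔ, ← hΔ, map_mul, map_mul, map_inv, map_inv]
      have e1 : π (δ c1) = π ⟨T w1, by rw [hT1]; exact X.mul_mem (X.inv_mem v1.2) (d.partner_mem_X hu hp1)⟩ :=
        hπ.2 hc1
      have e2 : π (δ c2) = π ⟨T w', by rw [hT2]; exact X.mul_mem (X.inv_mem v2.2) (d.partner_mem_X hu hw'.1)⟩ :=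
        hπ.2 hc2
      rw [e1, e2, ← map_inv, ← map_mul] at hc
      exact hπ.1 hc
    have h4 : (δ (c1⁻¹ * c2) : G) ∈ blockC M E u := by
      have := mul_mem h1 (inv_mem (d.A_le_blockC hu (d.E_le_A u hu hm)))
      rwa [mul_inv_rev, inv_inv, mul_inv_cancel_left] at this
    have h5 := d.comm_blockC hu he hg hgA' (hC _ h4)
    have h6 : (δ (c1⁻¹ * c2) : G) ∈ A u := by
      show g * (c1⁻¹ * c2 : X) * g⁻¹ * ((c1⁻¹ * c2 : X) : G)⁻¹ ∈ A u
      have h9 := (d.blockC_commute hu (hC _ h4) h5).eq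
      rw [mul_inv_cancel_left] at h9
      rw [h9, mul_assoc, mul_inv_cancel, mul_one]
      exact h5
    have := mul_mem h6 (d.E_le_A u hu hm)
    rwa [mul_inv_cancel_left] at this
  · obtain ⟨v2, c2, hv2, hT2, hc2, hv2C, e2⟩ := hT w2 hw2
    obtain ⟨v3, c3, hv3, hT3, hc3, hv3C, e3⟩ := hT w3 hw3
    have ht : T w2 = T w3 := mul_left_cancel h
    have hsqv : ∀ (v c : X) (t w' : G), (δ v : G) ∈ E → (δ c : G)⁻¹ * t ∈ E → t = (v : G)⁻¹ * w' →
        w' * w' = 1 → (v : G) * v = t * t := by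
      intro v c t w' hv hc ht hw
      set z2 := (δ c : G)⁻¹ * t
      have hvt : Commute (v : G) t := by
        rw [show t = (δ c : G) * z2 by rw [mul_inv_cancel_left]]
        exact (show Commute (v : G) (δ c : G) from mul_inv_eq_iff_eq_mul.1 (mul_inv_eq_one.1 (hcomm v c hv))).mul_right
          (d.eset_comm v.2.1 hc).symm
      have hw' : w' = (v : G) * t := by rw [ht, mul_inv_cancel_left]
      have htX : t ∈ X := by
        rw [show t = (δ c : G) * z2 by rw [mul_inv_cancel_left]]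
        exact mul_mem (δ c).2 (hEX hc)
      have h2 : (v : G) * v * (t * t) = 1 := by
        rw [← hw, hw', mul_assoc (v : G) t, ← mul_assoc t (v : G) t, ← hvt.eq, mul_assoc (v : G) t t, ← mul_assoc (v : G)]
      rw [eq_inv_of_mul_eq_one_left h2]
      exact d.eset_inv (d.sq_mem_E hu hp he htX)
    have hsq2 := hsqv v2 c2 _ w2 hv2 hc2 hT2 (d.bad_sq w2 hw2.1.1)
    have hsq3 := hsqv v3 c3 _ w3 hv3 hc3 hT3 (d.bad_sq w3 hw3.1.1)
    have hA := d.eq_of_sq hu he hv2C hv3C (by rw [hsq2, hsq3, ht])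
    have hE : (δ (v2⁻¹ * v3) : G) ∈ E := by
      have h1 : π (δ (v2⁻¹ * v3)) = (π (δ v2))⁻¹ * π (δ v3) := by
        rw [← hΔ, ← hΔ, ← hΔ, map_mul, map_mul, map_inv, map_inv]
      rw [show π (δ v2) = 1 from (QuotientGroup.eq_one_iff _).2 hv2,
        show π (δ v3) = 1 from (QuotientGroup.eq_one_iff _).2 hv3, inv_one, one_mul] at h1
      exact mem_subgroupOf.1 ((QuotientGroup.eq_one_iff (N := EX) _).1 h1)
    have hm : (v2 : G)⁻¹ * v3 ∈ E := hcapA (v2⁻¹ * v3) hE hA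
    have hpi : π ⟨w2, d.partner_mem_X hu hw2.1⟩ = π ⟨w3, d.partner_mem_X hu hw3.1⟩ := by
      refine hπ.2 ?_
      show w2⁻¹ * w3 ∈ E
      rw [show w2 = (v2 : G) * T w2 by rw [hT2, mul_inv_cancel_left],
        show w3 = (v3 : G) * T w3 by rw [hT3, mul_inv_cancel_left], ← ht, mul_inv_rev,
        show (T w2)⁻¹ * (v2 : G)⁻¹ * ((v3 : G) * T w2) = (T w2)⁻¹ * (((v2 : G)⁻¹ * v3) * T w2) by group,
        (d.eset_comm (hT2 ▸ mul_mem (inv_mem v2.2.1) (d.bad_le w2 hw2.1.1)) hm).eq, inv_mul_cancel_left]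
      exact hm
    have e4 : v2 = v3 := by rw [e2 (d.partner_mem_X hu hw2.1), e3 (d.partner_mem_X hu hw3.1), hpi]
    calc w2 = (v2 : G) * T w2 := by rw [hT2, mul_inv_cancel_left]
      _ = (v3 : G) * T w3 := by rw [e4, ht]
      _ = w3 := by rw [hT3, mul_inv_cancel_left]

end BlockData

end Cfsg.Agent.GoodInvol
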